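import Mathlib
import Cfsg.Prelude

set_option autoImplicit false
set_option linter.all false

/-!
Abstract group theory for `2.HS.2`.
-/

namespace H2.HN

open Subgroup

theorem comm_of_card_le_three {A : Type*} [Group A] (h0 : Nat.card A ≠ 0) (h : Nat.card A ≤ 3) : ∀ a b : A, a * b = b * a := by
  have hf : Finite A := Nat.finite_of_card_ne_zero h0
  intro a b
  rcases Nat.lt_or_ge (Nat.card A) 2 with h1 | h1
  · have : Subsingleton A := (Finite.card_le_one_iff_subsingleton).1 (by omega)
    exact Subsingleton.elim _ _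
  · have hp : (Nat.card A).Prime := by
      have : Nat.card A = 2 ∨ Nat.card A = 3 := by omega
      rcases this with h2 | h2 <;> rw [h2] <;> norm_num
    haveI : Fact (Nat.card A).Prime := ⟨hp⟩
    haveI : IsCyclic A := isCyclic_of_prime_card rfl
    obtain ⟨c, hc⟩ := IsCyclic.exists_generator (α := A)
    obtain ⟨i, hi⟩ := mem_zpowers_iff.1 (hc a)
    obtain ⟨j, hj⟩ := mem_zpowers_iff.1 (hc b)
    rw [← hi, ← hj, ← zpow_add, ← zpow_add, add_comm]

/-- a normal subgroup of index at most three of a perfect group is everything -/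
theorem eq_top_of_index_le {K : Type*} [Group K] (hperf : _root_.commutator K = ⊤) (C : Subgroup K) [C.Normal]
    (h0 : C.index ≠ 0) (h : C.index ≤ 3) : C = ⊤ := by
  have h1 : ∀ a b : K ⧸ C, a * b = b * a := comm_of_card_le_three (by rwa [index] at h0) (by rwa [index] at h)
  rw [eq_top_iff, ← hperf, commutator_def, commutator_le]
  intro a _ b _
  rw [← QuotientGroup.eq_one_iff, commutatorElement_def]
  show (a : K ⧸ C) * (b : K ⧸ C) * (a : K ⧸ C)⁻¹ * (b : K ⧸ C)⁻¹ = 1
  rw [h1 (a : K ⧸ C) b]
  group

theorem ker_central {K G : Type} [Group K] [Finite K] [Group G] [IsSimpleGroup G] (f : K →* G)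
    (hf : Function.Surjective f) (hperf : _root_.commutator K = ⊤) (hG : 720 < Nat.card G)
    (hker : Nat.card f.ker ≤ 6) (u : K) (hu : u ∈ f.ker) (huc : u ∈ center K)
    (h3 : Nat.card f.ker ≤ 3 ∨ u ≠ 1) : f.ker ≤ center K := by
  classical
  haveI : Finite G := Finite.of_surjective f hf
  let c : K →* MulAut f.ker := MulAut.conjNormal
  have hC0 : c.ker.index ≠ 0 := index_ne_zero_of_finite
  have h1 : c.ker.index ≤ 720 := by
    rw [index_ker]
    calc Nat.card c.range ≤ Nat.card (MulAut f.ker) := card_le_card_group _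
      _ ≤ Nat.card (Equiv.Perm f.ker) := Nat.card_le_card_of_injective (MulAut.toPerm f.ker)
        (fun a b h => MulEquiv.ext (fun w => congrArg (fun p : Equiv.Perm f.ker => p w) h))
      _ = (Nat.card f.ker).factorial := Nat.card_perm
      _ ≤ Nat.factorial 6 := Nat.factorial_le hker
      _ = 720 := by decide
  have hnorm : (c.ker.map f).Normal := Subgroup.Normal.map inferInstance f hf
  have h2 : c.ker = ⊤ := by
    rcases hnorm.eq_bot_or_eq_top with hb | ht
    · exfalso
      have hle : c.ker ≤ f.ker := by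
        intro a ha
        have : f a ∈ c.ker.map f := mem_map_of_mem f ha
        rw [hb] at this
        exact this
      have h4 : f.ker.index ≤ c.ker.index := Nat.le_of_dvd (Nat.pos_of_ne_zero hC0) (index_dvd_of_le hle)
      rw [index_ker, MonoidHom.range_eq_top.2 hf, card_top] at h4
      omega
    · have hsup : c.ker ⊔ f.ker = ⊤ := by
        rw [eq_top_iff]
        intro a _
        have : f a ∈ c.ker.map f := by rw [ht]; trivial
        obtain ⟨b, hb, hab⟩ := this
        have h5 : b⁻¹ * a ∈ f.ker := by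
          rw [MonoidHom.mem_ker, map_mul, map_inv, hab, inv_mul_cancel]
        have h6 : a = b * (b⁻¹ * a) := by group
        rw [h6]
        exact mul_mem (mem_sup_left hb) (mem_sup_right h5)
      have h7 : c.ker.index = c.ker.relIndex f.ker := by
        rw [← relIndex_top_right, ← hsup, relIndex_sup_left]
      apply eq_top_of_index_le hperf _ hC0
      rw [h7]
      rcases h3 with h3 | h3
      · refine le_trans ?_ h3
        exact Nat.le_of_dvd Nat.card_pos (relIndex_dvd_card _ _)
      · have h8 : Nat.card (c.ker.subgroupOf f.ker) * c.ker.relIndex f.ker = Nat.card f.ker := by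
          rw [relIndex]; exact card_mul_index _
        have h9 : 1 < Nat.card (c.ker.subgroupOf f.ker) := by
          rw [Finite.one_lt_card_iff_nontrivial, nontrivial_iff_exists_ne_one]
          refine ⟨⟨u, hu⟩, ?_, ?_⟩
          · rw [mem_subgroupOf, MonoidHom.mem_ker]
            ext n
            rw [MulAut.conjNormal_apply]
            show u * n * u⁻¹ = n
            rw [← (mem_center_iff.1 huc n), mul_inv_cancel_right]
          · intro h
            exact h3 (congrArg Subtype.val h)
        by_contra hlt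
        push Not at hlt
        have : 2 * 4 ≤ Nat.card (c.ker.subgroupOf f.ker) * c.ker.relIndex f.ker := Nat.mul_le_mul h9 hlt
        omega
  intro n hn
  rw [mem_center_iff]
  intro k
  have h10 : c k = 1 := by
    have : k ∈ c.ker := by rw [h2]; trivial
    exact this
  have h11 := congrArg (fun a : MulAut f.ker => ((a ⟨n, hn⟩ : f.ker) : K)) h10
  simp only [MulAut.one_apply] at h11
  have h12 : k * n * k⁻¹ = n := (MulAut.conjNormal_apply k ⟨n, hn⟩).symm.trans h11
  exact mul_inv_eq_iff_eq_mul.1 h12

/-- a quotient of a cyclic group of order two has at most two elements -/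
theorem card_le_two_of_mult {K G : Type} [Group K] [Finite K] [Group G] (hm : Cfsg.HasCyclicSchurMultiplier G 2)
    (f : K →* G) (hf : Function.Surjective f) (hperf : _root_.commutator K = ⊤) (hc : f.ker ≤ center K) :
    Nat.card f.ker ≤ 2 := by
  obtain ⟨π, hπ⟩ := hm.2 K f ⟨hf, hc, by rw [hperf]; exact le_top⟩
  have h1 := Nat.card_le_card_of_surjective π hπ
  have h2 : Nat.card (Multiplicative (ZMod 2)) = 2 := by
    rw [Nat.card_congr Multiplicative.toAdd, Nat.card_zmod]
  omega

/-- in a perfect group a supplement of a central subgroup is everything -/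
theorem eq_top_of_sup {K : Type*} [Group K] (hperf : _root_.commutator K = ⊤) (Z L : Subgroup K) (hZ : Z ≤ center K)
    (hsup : Z ⊔ L = ⊤) : L = ⊤ := by
  haveI hZn : Z.Normal := ⟨fun a ha g => by
    have := (mem_center_iff.1 (hZ ha)) g
    rw [this, mul_inv_cancel_right]; exact ha⟩
  rw [eq_top_iff, ← hperf, commutator_def, commutator_le]
  intro a _ b _
  obtain ⟨z1, hz1, l1, hl1, rfl⟩ : ∃ z ∈ Z, ∃ l ∈ L, z * l = a := by
    have : a ∈ Z ⊔ L := by rw [hsup]; trivial
    exact (mem_sup_of_normal_left).1 this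
  obtain ⟨z2, hz2, l2, hl2, rfl⟩ : ∃ z ∈ Z, ∃ l ∈ L, z * l = b := by
    have : b ∈ Z ⊔ L := by rw [hsup]; trivial
    exact (mem_sup_of_normal_left).1 this
  rw [commutatorElement_def]
  have e1 : z1 * l1 * (z2 * l2) * (z1 * l1)⁻¹ * (z2 * l2)⁻¹ = l1 * l2 * l1⁻¹ * l2⁻¹ := by
    replace hz1 := mem_center_iff.1 (hZ hz1)
    replace hz2 := mem_center_iff.1 (hZ hz2)
    have a1 : z1 * l1 * (z2 * l2) = (l1 * l2) * (z1 * z2) := by
      calc z1 * l1 * (z2 * l2) = (l1 * z1) * (l2 * z2) := by rw [hz1 l1, hz2 l2]
        _ = l1 * (z1 * l2) * z2 := by group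
        _ = l1 * (l2 * z1) * z2 := by rw [hz1 l2]
        _ = _ := by group
    have a2 : z2 * l2 * (z1 * l1) = (l2 * l1) * (z1 * z2) := by
      calc z2 * l2 * (z1 * l1) = (l2 * z2) * (l1 * z1) := by rw [hz1 l1, hz2 l2]
        _ = l2 * (z2 * l1) * z1 := by group
        _ = l2 * (l1 * z2) * z1 := by rw [hz2 l1]
        _ = l2 * l1 * (z2 * z1) := by group
        _ = _ := by rw [hz1 z2]
    have a3 : z1 * l1 * (z2 * l2) * (z1 * l1)⁻¹ * (z2 * l2)⁻¹ = (z1 * l1 * (z2 * l2)) * (z2 * l2 * (z1 * l1))⁻¹ := by
      group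
    rw [a3, a1, a2]
    group
  rw [e1]
  exact mul_mem (mul_mem (mul_mem hl1 hl2) (inv_mem hl1)) (inv_mem hl2)

/-- perfect + central kernel of order two + simple quotient = non-split double cover -/
theorem nsdc {K G H : Type*} [Group K] [Finite K] [Group G] [IsSimpleGroup G] [Group H] (hna : ∃ a b : G, a * b ≠ b * a)
    (e : G ≃* H)
    (f : K →* G) (hf : Function.Surjective f) (hperf : _root_.commutator K = ⊤) (hc : f.ker ≤ center K)
    (h2 : Nat.card f.ker = 2) : Cfsg.IsNonsplitDoubleCover K H := by
  have hcG : center G = ⊥ := by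
    rcases (inferInstance : (center G).Normal).eq_bot_or_eq_top with h | h
    · exact h
    · exfalso
      obtain ⟨a, b, hab⟩ := hna
      apply hab
      have : b ∈ center G := by rw [h]; trivial
      exact mem_center_iff.1 this a
  have hker : center K = f.ker := by
    apply le_antisymm _ hc
    intro a ha
    have : f a ∈ center G := by
      rw [mem_center_iff]
      intro b
      obtain ⟨c, rfl⟩ := hf b
      rw [← map_mul, ← map_mul, mem_center_iff.1 ha c]
    rw [hcG] at this
    exact this
  refine ⟨by rw [hker]; exact h2, ⟨?_⟩, ?_⟩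
  · exact (QuotientGroup.quotientMulEquivOfEq hker).trans ((QuotientGroup.quotientKerEquivOfSurjective f hf).trans e)
  · intro L hL
    have h3 : L = ⊤ := eq_top_of_sup hperf _ L le_rfl hL.sup_eq_top
    have h4 : center K ⊓ L = ⊥ := hL.disjoint.eq_bot
    rw [h3, inf_top_eq, hker] at h4
    rw [h4, card_bot] at h2
    omega

end H2.HN
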