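import Mathlib

set_option autoImplicit false
set_option linter.all false

/-!
The presentation of `2.HS.2` on `x, y, z` inside the presented Harada–Norton group: first consequences and the
upper bound.
-/

namespace H2.HN

open Subgroup

/-- the ten relators -/
structure Rel {Γ : Type} [Group Γ] (x y z : Γ) : Prop where
  r1 : y ^ 6 = 1
  r2 : x ^ 2 * y * x ^ 2 * y⁻¹ = 1
  r3 : (x⁻¹ * y⁻¹ * x * y) ^ 3 = 1
  r4 : (x⁻¹ * y ^ 2 * x * y ^ 3) ^ 3 = 1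
  r5 : (x * y) ^ 8 = 1
  r6 : (x * y * x * y ^ 3) ^ 4 = 1
  r7 : z ^ 2 = 1
  r8 : (z * x) ^ 2 = 1
  r9 : (z⁻¹ * (y * x * y * x * (y ^ 2) * x * (y⁻¹))⁻¹ * z * (y * x * y * x * (y ^ 2) * x * (y⁻¹))) * ((x ^ 2)⁻¹) = 1
  r10 : z * (((((y ^ 3) * x * y * x * y)⁻¹ * z * ((y ^ 3) * x * y * x * y)) * x) ^ 3) = 1

section basic

variable {Γ : Type} [Group Γ] {x y z : Γ}

theorem Rel.map {Δ : Type} [Group Δ] (h : Rel x y z) (f : Γ →* Δ) : Rel (f x) (f y) (f z) := by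
  constructor
  · simpa only [map_mul, map_pow, map_inv, map_one] using congrArg f h.r1
  · simpa only [map_mul, map_pow, map_inv, map_one] using congrArg f h.r2
  · simpa only [map_mul, map_pow, map_inv, map_one] using congrArg f h.r3
  · simpa only [map_mul, map_pow, map_inv, map_one] using congrArg f h.r4
  · simpa only [map_mul, map_pow, map_inv, map_one] using congrArg f h.r5
  · simpa only [map_mul, map_pow, map_inv, map_one] using congrArg f h.r6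
  · simpa only [map_mul, map_pow, map_inv, map_one] using congrArg f h.r7
  · simpa only [map_mul, map_pow, map_inv, map_one] using congrArg f h.r8
  · simpa only [map_mul, map_pow, map_inv, map_one] using congrArg f h.r9
  · simpa only [map_mul, map_pow, map_inv, map_one] using congrArg f h.r10

theorem Rel.z_inv (h : Rel x y z) : z⁻¹ = z := by
  rw [inv_eq_iff_mul_eq_one, ← pow_two]; exact h.r7

/-- `z x z⁻¹ = x⁻¹` -/
theorem Rel.zx (h : Rel x y z) : z * x * z⁻¹ = x⁻¹ := by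
  have h1 := h.r8
  rw [pow_two] at h1
  rw [h.z_inv]
  calc z * x * z = (z * x * (z * x)) * x⁻¹ := by group
    _ = x⁻¹ := by rw [h1, one_mul]

theorem Rel.yu (h : Rel x y z) : y * x ^ 2 * y⁻¹ = (x ^ 2)⁻¹ := by
  have h1 := h.r2
  calc y * x ^ 2 * y⁻¹ = (x ^ 2)⁻¹ * (x ^ 2 * y * x ^ 2 * y⁻¹) := by group
    _ = (x ^ 2)⁻¹ := by rw [h1, mul_one]

theorem conj_pow_inv {a u : Γ} (h : a * u * a⁻¹ = u⁻¹) : a⁻¹ * u * a = u⁻¹ := by
  have : u = a⁻¹ * u⁻¹ * a := by rw [← h]; group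
  calc a⁻¹ * u * a = (a⁻¹ * u⁻¹ * a)⁻¹ := by group
    _ = u⁻¹ := by rw [← this]

theorem conj_inv {a u v : Γ} (h : a * u * a⁻¹ = v) : a * u⁻¹ * a⁻¹ = v⁻¹ := by
  rw [← h]; group

/-- `x⁴ = 1` -/
theorem Rel.u2 (h : Rel x y z) : x ^ 2 * x ^ 2 = 1 := by
  set u := x ^ 2 with hu
  have hxu : x * u * x⁻¹ = u := by rw [hu]; group
  have hxu' : x⁻¹ * u * x = u := by rw [hu]; group
  have hyu : y * u * y⁻¹ = u⁻¹ := h.yu
  have hyu' : y * u⁻¹ * y⁻¹ = u := by rw [conj_inv hyu, inv_inv]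
  set t := x⁻¹ * y ^ 2 * x * y ^ 3 with ht
  have h3 : t ^ 3 = 1 := h.r4
  have hy3 : y ^ 3 * u * (y ^ 3)⁻¹ = u⁻¹ := by
    calc y ^ 3 * u * (y ^ 3)⁻¹ = y * (y * (y * u * y⁻¹) * y⁻¹) * y⁻¹ := by
          simp only [pow_succ, pow_zero, one_mul, mul_inv_rev, mul_assoc]
      _ = u⁻¹ := by rw [hyu, hyu', hyu]
  have hy2 : y ^ 2 * u⁻¹ * (y ^ 2)⁻¹ = u⁻¹ := by
    calc y ^ 2 * u⁻¹ * (y ^ 2)⁻¹ = y * (y * u⁻¹ * y⁻¹) * y⁻¹ := by
          simp only [pow_succ, pow_zero, one_mul, mul_inv_rev, mul_assoc]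
      _ = u⁻¹ := by rw [hyu', hyu]
  have hxi : x * u⁻¹ * x⁻¹ = u⁻¹ := conj_inv hxu
  have hxi' : x⁻¹ * u⁻¹ * x = u⁻¹ := by
    have := conj_inv (a := x⁻¹) (u := u) (v := u) (by rw [inv_inv]; exact hxu')
    rwa [inv_inv] at this
  have ht1 : t * u * t⁻¹ = u⁻¹ := by
    calc t * u * t⁻¹ = x⁻¹ * (y ^ 2 * (x * (y ^ 3 * u * (y ^ 3)⁻¹) * x⁻¹) * (y ^ 2)⁻¹) * x := by rw [ht]; group
      _ = u⁻¹ := by rw [hy3, hxi, hy2, hxi']
  have ht2 : t * u⁻¹ * t⁻¹ = u := by rw [conj_inv ht1, inv_inv]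
  have : u = u⁻¹ := by
    calc u = t ^ 3 * u * (t ^ 3)⁻¹ := by rw [h3]; group
      _ = t * (t * (t * u * t⁻¹) * t⁻¹) * t⁻¹ := by
          simp only [pow_succ, pow_zero, one_mul, mul_inv_rev, mul_assoc]
      _ = u⁻¹ := by rw [ht1, ht2, ht1]
  calc u * u = u * u⁻¹ := by rw [← this]
    _ = 1 := mul_inv_cancel u

theorem Rel.u_inv (h : Rel x y z) : (x ^ 2)⁻¹ = x ^ 2 := by
  rw [inv_eq_iff_mul_eq_one]; exact h.u2

theorem Rel.comm_y (h : Rel x y z) : Commute y (x ^ 2) := by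
  have := h.yu
  rw [h.u_inv] at this
  show y * x ^ 2 = x ^ 2 * y
  exact mul_inv_eq_iff_eq_mul.1 this

theorem Rel.comm_x (h : Rel x y z) : Commute x (x ^ 2) := (Commute.refl x).pow_right 2

theorem Rel.comm_z (h : Rel x y z) : Commute z (x ^ 2) := by
  have h1 : z * x ^ 2 * z⁻¹ = x ^ 2 := by
    calc z * x ^ 2 * z⁻¹ = (z * x * z⁻¹) ^ 2 := by rw [conj_pow]
      _ = (x ^ 2)⁻¹ := by rw [h.zx, inv_pow]
      _ = x ^ 2 := h.u_inv
  exact mul_inv_eq_iff_eq_mul.1 h1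

theorem Rel.u_central (h : Rel x y z) {a : Γ} (ha : a ∈ closure ({x, y, z} : Set Γ)) : Commute a (x ^ 2) := by
  induction ha using Subgroup.closure_induction with
  | mem a ha =>
    rcases ha with rfl | rfl | rfl
    · exact h.comm_x
    · exact h.comm_y
    · exact h.comm_z
  | one => exact Commute.one_left _
  | mul a b _ _ ha hb => exact ha.mul_left hb
  | inv a _ ha => exact ha.inv_left

/-- with `x, y` commuting everything is trivial -/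
theorem Rel.triv (h : Rel x y z) (hc : Commute x y) : x = 1 ∧ y = 1 := by
  have h4 := h.r4
  have e1 : x⁻¹ * y ^ 2 * x = y ^ 2 := by
    rw [mul_assoc, ← (hc.pow_right 2).eq, inv_mul_cancel_left]
  rw [e1, ← pow_add, ← pow_mul] at h4
  have hy6 := h.r1
  have hy3 : y ^ 3 = 1 := by
    calc y ^ 3 = y ^ ((2 + 3) * 3) * ((y ^ 6) ^ 2)⁻¹ := by
          rw [← pow_mul, eq_mul_inv_iff_mul_eq, ← pow_add]
      _ = 1 := by rw [h4, hy6]; simp
  have hx4 : x ^ 4 = 1 := by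
    rw [← h.u2, ← pow_add]
  have h5 := h.r5
  rw [hc.mul_pow] at h5
  have hx8 : x ^ 8 = 1 := by
    rw [show 8 = 4 * 2 by norm_num, pow_mul, hx4, one_pow]
  rw [hx8, one_mul] at h5
  have hy1 : y = 1 := by
    calc y = (y ^ 3) ^ 3 * (y ^ 8)⁻¹ := by
          rw [← pow_mul, eq_mul_inv_iff_mul_eq, ← pow_succ']
      _ = 1 := by rw [hy3, h5]; simp
  have h10 := h.r10
  rw [hy1] at h10
  have e2 : (1 ^ 3 * x * 1 * x * 1 : Γ) = x ^ 2 := by simp [pow_two]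
  rw [e2] at h10
  have e3 : (x ^ 2)⁻¹ * z * x ^ 2 = z := by
    rw [mul_assoc, h.comm_z.eq, inv_mul_cancel_left]
  rw [e3, pow_succ, h.r8, one_mul, ← mul_assoc, ← pow_two, h.r7, one_mul] at h10
  exact ⟨h10, hy1⟩

end basic

end H2.HN
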