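import Mathlib
import Cfsg.Agent.Lib.H2.HN.Rel
import Cfsg.Agent.Lib.H2.TCHNA
import Cfsg.Agent.Lib.H2.TCHNB
import Cfsg.Agent.Lib.H2.TCHNC
import Cfsg.Agent.Lib.H2.TCHND

set_option autoImplicit false
set_option linter.all false

/-!
The presentation of `2.HS.2` on `x, y, z` inside the presented Harada–Norton group: upper bound.
-/

namespace H2.HN

open Subgroup

section bound

variable {Q : Type} [Group Q] {x y z : Q}

/-- the relations modulo `x²` -/
theorem index_A (h : Rel x y z) (hx : x ^ 2 = 1) :
    (closure ({x, y} : Set Q)).relIndex (closure ({x, y, z} : Set Q)) ≤ 352 ∧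
      (closure ({x, y} : Set Q)).relIndex (closure ({x, y, z} : Set Q)) ≠ 0 := by
  have hxi : x⁻¹ = x := by rw [inv_eq_iff_mul_eq_one, ← pow_two]; exact hx
  have hzi : z⁻¹ = z := h.z_inv
  let g : TCHNA.Lt → Q := fun l => match l with | .x => x | .y => y | .yi => y⁻¹ | .z => z
  have hr : closure (Set.range g) = closure ({x, y, z} : Set Q) := by
    apply le_antisymm
    · rw [closure_le]
      rintro _ ⟨l, rfl⟩
      have hx1 : x ∈ closure ({x, y, z} : Set Q) := subset_closure (by simp)
      have hy1 : y ∈ closure ({x, y, z} : Set Q) := subset_closure (by simp)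
      have hz1 : z ∈ closure ({x, y, z} : Set Q) := subset_closure (by simp)
      cases l
      · exact hx1
      · exact hy1
      · exact inv_mem hy1
      · exact hz1
    · rw [closure_le]
      rintro a (rfl | rfl | rfl)
      · exact subset_closure ⟨.x, rfl⟩
      · exact subset_closure ⟨.y, rfl⟩
      · exact subset_closure ⟨.z, rfl⟩
  rw [← hr]
  apply TCHNA.main
  · intro l
    cases l
    · exact hxi.symm
    · rfl
    · exact (inv_inv y).symm
    · exact hzi.symm
  · intro a b
    have hxx : x * x = 1 := by rw [← pow_two]; exact hx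
    have hzz : z * z = 1 := by rw [← pow_two]; exact h.r7
    have hzx := h.r8
    have hxz : (x * z) ^ 2 = 1 := by
      have : x * z = (z * x)⁻¹ := by rw [mul_inv_rev, hxi, hzi]
      rw [this, inv_pow, hzx, inv_one]
    cases a <;> cases b <;> simp [TCHNA.mm, g, hxx, hzz, hzx, hxz]
  · have e3 := h.r3
    have e4 := h.r4
    have e9 := h.r9
    have e10 := h.r10
    rw [hxi] at e3 e4
    simp only [mul_inv_rev, hxi, hzi, inv_inv, hx, inv_one, mul_one] at e9 e10
    intro p hp
    simp only [TCHNA.extra, List.mem_cons, List.not_mem_nil, or_false] at hp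
    rcases hp with rfl | rfl | rfl | rfl | rfl | rfl | rfl | rfl | rfl
    · simpa [g] using h.r1
    · simpa [g, mul_assoc] using e3
    · simpa [g] using h.r5
    · rw [pow_one]
      rw [← e9]
      simp only [List.map_cons, List.map_nil, List.prod_cons, List.prod_nil, g, pow_succ, pow_zero, one_mul, mul_one, mul_assoc, mul_inv_rev]
    · rw [← e4]
      congr 1
      simp only [List.map_cons, List.map_nil, List.prod_cons, List.prod_nil, g, pow_succ, pow_zero, one_mul, mul_one, mul_assoc, mul_inv_rev]
    · rw [← h.r6]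
      congr 1
      simp only [List.map_cons, List.map_nil, List.prod_cons, List.prod_nil, g, pow_succ, pow_zero, one_mul, mul_one, mul_assoc, mul_inv_rev]
    · rw [pow_one]
      rw [← e10]
      simp only [List.map_cons, List.map_nil, List.prod_cons, List.prod_nil, g, pow_succ, pow_zero, one_mul, mul_one, mul_assoc, mul_inv_rev]
    · simp [g]
    · simp [g]
  · intro r hr
    simp only [TCHNA.subs, List.mem_cons, List.not_mem_nil, or_false] at hr
    rcases hr with rfl | rfl
    · simpa [g] using (subset_closure (by simp) : x ∈ closure ({x, y} : Set Q))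
    · simpa [g] using (subset_closure (by simp) : y ∈ closure ({x, y} : Set Q))

theorem rel_C (h : Rel x y z) (hx : x ^ 2 = 1) : (x * y ^ 3) ^ 12 = 1 := by
  have hxi : x⁻¹ = x := by rw [inv_eq_iff_mul_eq_one, ← pow_two]; exact hx
  have hxx : x * x = 1 := by rw [← pow_two]; exact hx
  let g : TCHNC.Lt → Q := fun l => match l with | .x => x | .y => y | .yi => y⁻¹
  refine TCHNC.goal_0 (g := g) ?_ ?_ ?_
  · intro l
    cases l
    · exact hxi.symm
    · rfl
    · exact (inv_inv y).symm
  · intro a b
    cases a <;> cases b <;> simp [TCHNC.mm, g, hxx]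
  · have e3 := h.r3
    have e4 := h.r4
    rw [hxi] at e3 e4
    intro p hp
    simp only [TCHNC.extra, List.mem_cons, List.not_mem_nil, or_false] at hp
    rcases hp with rfl | rfl | rfl | rfl | rfl | rfl | rfl
    · simpa [g] using h.r1
    · simpa [g, mul_assoc] using e3
    · simpa [g] using h.r5
    · rw [← e4]
      congr 1
      simp only [List.map_cons, List.map_nil, List.prod_cons, List.prod_nil, g, pow_succ, pow_zero, one_mul, mul_one, mul_assoc, mul_inv_rev]
    · rw [← h.r6]
      congr 1
      simp only [List.map_cons, List.map_nil, List.prod_cons, List.prod_nil, g, pow_succ, pow_zero, one_mul, mul_one, mul_assoc, mul_inv_rev]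
    · simp [g]
    · simp [g]

theorem index_B (h : Rel x y z) (hx : x ^ 2 = 1) :
    (closure ({x, y ^ 3} : Set Q)).relIndex (closure ({x, y} : Set Q)) ≤ 31500 ∧
      (closure ({x, y ^ 3} : Set Q)).relIndex (closure ({x, y} : Set Q)) ≠ 0 := by
  have hxi : x⁻¹ = x := by rw [inv_eq_iff_mul_eq_one, ← pow_two]; exact hx
  have hxx : x * x = 1 := by rw [← pow_two]; exact hx
  let g : TCHNB.Lt → Q := fun l => match l with | .x => x | .y => y | .yi => y⁻¹
  have hr : closure (Set.range g) = closure ({x, y} : Set Q) := by
    apply le_antisymm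
    · rw [closure_le]
      rintro _ ⟨l, rfl⟩
      have hx1 : x ∈ closure ({x, y} : Set Q) := subset_closure (by simp)
      have hy1 : y ∈ closure ({x, y} : Set Q) := subset_closure (by simp)
      cases l
      · exact hx1
      · exact hy1
      · exact inv_mem hy1
    · rw [closure_le]
      rintro a (rfl | rfl)
      · exact subset_closure ⟨.x, rfl⟩
      · exact subset_closure ⟨.y, rfl⟩
  rw [← hr]
  apply TCHNB.main
  · intro l
    cases l
    · exact hxi.symm
    · rfl
    · exact (inv_inv y).symm
  · intro a b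
    cases a <;> cases b <;> simp [TCHNB.mm, g, hxx]
  · have e3 := h.r3
    have e4 := h.r4
    rw [hxi] at e3 e4
    intro p hp
    simp only [TCHNB.extra, List.mem_cons, List.not_mem_nil, or_false] at hp
    rcases hp with rfl | rfl | rfl | rfl | rfl | rfl | rfl | rfl
    · simpa [g] using h.r1
    · simpa [g, mul_assoc] using e3
    · simpa [g] using h.r5
    · rw [← e4]
      congr 1
      simp only [List.map_cons, List.map_nil, List.prod_cons, List.prod_nil, g, pow_succ, pow_zero, one_mul, mul_one, mul_assoc, mul_inv_rev]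
    · rw [← h.r6]
      congr 1
      simp only [List.map_cons, List.map_nil, List.prod_cons, List.prod_nil, g, pow_succ, pow_zero, one_mul, mul_one, mul_assoc, mul_inv_rev]
    · rw [← rel_C h hx]
      congr 1
      simp only [List.map_cons, List.map_nil, List.prod_cons, List.prod_nil, g, pow_succ, pow_zero, one_mul, mul_one, mul_assoc, mul_inv_rev]
    · simp [g]
    · simp [g]
  · intro r hr
    simp only [TCHNB.subs, List.mem_cons, List.not_mem_nil, or_false] at hr
    rcases hr with rfl | rfl
    · simpa [g] using (subset_closure (by simp) : x ∈ closure ({x, y ^ 3} : Set Q))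
    · simpa [g, pow_succ, mul_assoc] using (subset_closure (by simp) : y ^ 3 ∈ closure ({x, y ^ 3} : Set Q))

theorem card_D (h : Rel x y z) (hx : x ^ 2 = 1) :
    Nat.card (closure ({x, y ^ 3} : Set Q)) ≤ 24 ∧ Nat.card (closure ({x, y ^ 3} : Set Q)) ≠ 0 := by
  have hxx : x * x = 1 := by rw [← pow_two]; exact hx
  have hxi : x⁻¹ = x := by rw [inv_eq_iff_mul_eq_one]; exact hxx
  have htt : y ^ 3 * y ^ 3 = 1 := by rw [← pow_add]; exact h.r1
  have hti : (y ^ 3)⁻¹ = y ^ 3 := by rw [inv_eq_iff_mul_eq_one]; exact htt
  have h12 := rel_C h hx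
  have h12' : (y ^ 3 * x) ^ 12 = 1 := by
    have : y ^ 3 * x = (x * y ^ 3)⁻¹ := by rw [mul_inv_rev, hxi, hti]
    rw [this, inv_pow, h12, inv_one]
  let g : TCHND.Lt → Q := fun l => match l with | .x => x | .t => y ^ 3
  have hr : closure (Set.range g) = closure ({x, y ^ 3} : Set Q) := by
    congr 1
    ext a
    constructor
    · rintro ⟨l, rfl⟩
      cases l
      · exact Or.inl rfl
      · exact Or.inr rfl
    · rintro (rfl | rfl)
      · exact ⟨.x, rfl⟩
      · exact ⟨.t, rfl⟩
  have key := TCHND.main (g := g) (H := (⊥ : Subgroup Q)) ?_ ?_ ?_ ?_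
  · rw [hr, relIndex_bot_left] at key
    exact key
  · intro l
    cases l
    · exact hxi.symm
    · exact hti.symm
  · intro a b
    cases a <;> cases b <;> simp [TCHND.mm, g, hxx, htt, h12, h12']
  · intro p hp
    simp [TCHND.extra] at hp
  · intro p hp
    simp [TCHND.subs] at hp

/-- upper bound modulo `x²` -/
theorem card_bar (h : Rel x y z) (hx : x ^ 2 = 1) :
    Nat.card (closure ({x, y, z} : Set Q)) ≤ 352 * (31500 * 24) ∧ Nat.card (closure ({x, y, z} : Set Q)) ≠ 0 := by
  have h1 : closure ({x, y} : Set Q) ≤ closure ({x, y, z} : Set Q) := by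
    apply Subgroup.closure_mono
    intro a ha
    rcases ha with rfl | rfl
    · exact Or.inl rfl
    · exact Or.inr (Or.inl rfl)
  have h2 : closure ({x, y ^ 3} : Set Q) ≤ closure ({x, y} : Set Q) := by
    rw [closure_le]
    rintro a (rfl | rfl)
    · exact subset_closure (by simp)
    · exact pow_mem (subset_closure (by simp)) 3
  have e1 : Nat.card (closure ({x, y} : Set Q)) * (closure ({x, y} : Set Q)).relIndex (closure ({x, y, z} : Set Q)) =
      Nat.card (closure ({x, y, z} : Set Q)) := by
    rw [← relIndex_bot_left, ← relIndex_bot_left]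
    exact relIndex_mul_relIndex _ _ _ bot_le h1
  have e2 : Nat.card (closure ({x, y ^ 3} : Set Q)) * (closure ({x, y ^ 3} : Set Q)).relIndex (closure ({x, y} : Set Q)) =
      Nat.card (closure ({x, y} : Set Q)) := by
    rw [← relIndex_bot_left, ← relIndex_bot_left]
    exact relIndex_mul_relIndex _ _ _ bot_le h2
  have ha := index_A h hx
  have hb := index_B h hx
  have hd := card_D h hx
  rw [← e1, ← e2]
  constructor
  · calc Nat.card (closure ({x, y ^ 3} : Set Q)) * (closure ({x, y ^ 3} : Set Q)).relIndex (closure ({x, y} : Set Q)) *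
        (closure ({x, y} : Set Q)).relIndex (closure ({x, y, z} : Set Q)) ≤ 24 * 31500 * 352 :=
        Nat.mul_le_mul (Nat.mul_le_mul hd.1 hb.1) ha.1
      _ = _ := by norm_num
  · exact mul_ne_zero (mul_ne_zero hd.2 hb.2) ha.2

end bound

end H2.HN
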