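import Mathlib
import Cfsg.Agent.Lib.H2.HN.Rel
import Cfsg.Agent.Lib.H2.HN.Abs

set_option autoImplicit false
set_option linter.all false

/-!
The subgroup `K = ⟨x, y, z y z⁻¹⟩` and the abstract group `P` with the ten relators.
-/

namespace H2.HN

open Subgroup

section K

variable {Γ : Type} [Group Γ]

/-- the subgroup `⟨x, y, z y z⁻¹⟩` -/
def KK (x y z : Γ) : Subgroup Γ := closure ({x, y, z * y * z⁻¹} : Set Γ)

theorem x_mem (x y z : Γ) : x ∈ KK x y z := subset_closure (by simp)
theorem y_mem (x y z : Γ) : y ∈ KK x y z := subset_closure (by simp)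
theorem v_mem (x y z : Γ) : z * y * z⁻¹ ∈ KK x y z := subset_closure (by simp)

variable {x y z : Γ}

theorem conj_z_mem (h : Rel x y z) {a : Γ} (ha : a ∈ KK x y z) : z * a * z⁻¹ ∈ KK x y z := by
  have hle : (KK x y z) ≤ (KK x y z).comap (MulAut.conj z).toMonoidHom := by
    unfold KK
    rw [closure_le]
    rintro b (rfl | rfl | rfl)
    · show z * b * z⁻¹ ∈ KK _ y z
      rw [h.zx]
      exact inv_mem (x_mem _ y z)
    · exact v_mem x b z
    · show z * (z * y * z⁻¹) * z⁻¹ ∈ KK x y z
      have : z * (z * y * z⁻¹) * z⁻¹ = y := by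
        calc z * (z * y * z⁻¹) * z⁻¹ = z ^ 2 * y * (z ^ 2)⁻¹ := by
              simp only [pow_two, mul_inv_rev, mul_assoc]
          _ = y := by rw [h.r7]; simp
      rw [this]
      exact y_mem x y z
  exact hle ha

/-- elements of `⟨x, y, z⟩` normalise `K` -/
theorem conj_mem (h : Rel x y z) {g : Γ} (hg : g ∈ closure ({x, y, z} : Set Γ)) :
    ∀ a ∈ KK x y z, g * a * g⁻¹ ∈ KK x y z ∧ g⁻¹ * a * g ∈ KK x y z := by
  induction hg using Subgroup.closure_induction with
  | mem g hg =>
    rcases hg with rfl | rfl | rfl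
    · intro a ha
      exact ⟨mul_mem (mul_mem (x_mem _ _ _) ha) (inv_mem (x_mem _ _ _)),
        mul_mem (mul_mem (inv_mem (x_mem _ _ _)) ha) (x_mem _ _ _)⟩
    · intro a ha
      exact ⟨mul_mem (mul_mem (y_mem _ _ _) ha) (inv_mem (y_mem _ _ _)),
        mul_mem (mul_mem (inv_mem (y_mem _ _ _)) ha) (y_mem _ _ _)⟩
    · intro a ha
      refine ⟨conj_z_mem h ha, ?_⟩
      have := conj_z_mem h ha
      rwa [h.z_inv] at this ⊢
  | one => intro a ha; simpa using ha
  | mul g k _ _ hg hk =>
    intro a ha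
    constructor
    · have := (hg _ (hk a ha).1).1
      have e : g * k * a * (g * k)⁻¹ = g * (k * a * k⁻¹) * g⁻¹ := by group
      rwa [e]
    · have := (hk _ (hg a ha).2).2
      have e : (g * k)⁻¹ * a * (g * k) = k⁻¹ * (g⁻¹ * a * g) * k := by group
      rwa [e]
  | inv g _ hg =>
    intro a ha
    have := hg a ha
    rw [inv_inv]
    exact ⟨this.2, this.1⟩

/-- `⟨x, y, z⟩ = K ∪ K z` -/
theorem mem_or (h : Rel x y z) {g : Γ} (hg : g ∈ closure ({x, y, z} : Set Γ)) : g ∈ KK x y z ∨ g * z⁻¹ ∈ KK x y z := by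
  induction hg using Subgroup.closure_induction with
  | mem g hg =>
    rcases hg with rfl | rfl | rfl
    · exact Or.inl (x_mem _ _ _)
    · exact Or.inl (y_mem _ _ _)
    · right; rw [mul_inv_cancel]; exact one_mem _
  | one => exact Or.inl (one_mem _)
  | mul g k _ _ hg hk =>
    rcases hg with hg | hg <;> rcases hk with hk | hk
    · exact Or.inl (mul_mem hg hk)
    · right; rw [mul_assoc]; exact mul_mem hg hk
    · right
      have := mul_mem hg (conj_z_mem h hk)
      have e : g * z⁻¹ * (z * k * z⁻¹) = g * k * z⁻¹ := by group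
      rwa [e] at this
    · left
      have := mul_mem hg (conj_z_mem h hk)
      have e : g * z⁻¹ * (z * (k * z⁻¹) * z⁻¹) = g * k * (z ^ 2)⁻¹ := by
        simp only [pow_two, mul_inv_rev, mul_assoc, inv_mul_cancel_left]
      rw [e, h.r7] at this
      simpa using this
  | inv g _ hg =>
    rcases hg with hg | hg
    · exact Or.inl (inv_mem hg)
    · right
      have := conj_z_mem h (inv_mem hg)
      have e : z * (g * z⁻¹)⁻¹ * z⁻¹ = z ^ 2 * g⁻¹ * z⁻¹ := by
        simp only [pow_two, mul_inv_rev, inv_inv, mul_assoc]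
      rw [e, h.r7, one_mul] at this
      exact this

theorem KK_le : KK x y z ≤ closure ({x, y, z} : Set Γ) := by
  unfold KK
  rw [closure_le]
  have hy : y ∈ closure ({x, y, z} : Set Γ) := subset_closure (by simp)
  have hz : z ∈ closure ({x, y, z} : Set Γ) := subset_closure (by simp)
  rintro b (rfl | rfl | rfl)
  · exact subset_closure (by simp)
  · exact subset_closure (by simp)
  · exact mul_mem (mul_mem hz hy) (inv_mem hz)

theorem normal_K (h : Rel x y z) (ht : closure ({x, y, z} : Set Γ) = ⊤) : (KK x y z).Normal :=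
  ⟨fun a ha g => (conj_mem h (by rw [ht]; trivial) a ha).1⟩

/-- `K` is perfect -/
theorem perfect_K (h : Rel x y z) (ht : closure ({x, y, z} : Set Γ) = ⊤) : ⁅KK x y z, KK x y z⁆ = KK x y z := by
  haveI := normal_K h ht
  apply le_antisymm (commutator_le_left _ _)
  let q : Γ →* Γ ⧸ ⁅KK x y z, KK x y z⁆ := QuotientGroup.mk' _
  have hq := h.map q
  have hc : Commute (q x) (q y) := by
    have h1 : x * y * x⁻¹ * y⁻¹ ∈ ⁅KK x y z, KK x y z⁆ := by
      rw [← commutatorElement_def]
      exact commutator_mem_commutator (x_mem _ _ _) (y_mem _ _ _)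
    have h2 : q (x * y * x⁻¹ * y⁻¹) = 1 := (QuotientGroup.eq_one_iff _).2 h1
    simp only [map_mul, map_inv] at h2
    have h3 : q x * q y = q y * q x := by
      calc q x * q y = (q x * q y * (q x)⁻¹ * (q y)⁻¹) * (q y * q x) := by group
        _ = q y * q x := by rw [h2, one_mul]
    exact h3
  obtain ⟨hx, hy⟩ := hq.triv hc
  have hx' : x ∈ ⁅KK x y z, KK x y z⁆ := (QuotientGroup.eq_one_iff _).1 hx
  have hy' : y ∈ ⁅KK x y z, KK x y z⁆ := (QuotientGroup.eq_one_iff _).1 hy
  have hN : (⁅KK x y z, KK x y z⁆).Normal := inferInstance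
  conv_lhs => unfold KK
  rw [closure_le]
  rintro b (rfl | rfl | rfl)
  · exact hx'
  · exact hy'
  · exact hN.conj_mem _ hy' z

theorem perfect_K' (h : Rel x y z) (ht : closure ({x, y, z} : Set Γ) = ⊤) : _root_.commutator (KK x y z) = ⊤ := by
  have h1 := perfect_K h ht
  have h2 : (_root_.commutator (KK x y z)).map (KK x y z).subtype = (⊤ : Subgroup (KK x y z)).map (KK x y z).subtype := by
    rw [commutator_def, map_commutator, ← MonoidHom.range_eq_map, range_subtype]
    exact h1
  exact map_injective (subtype_injective _) h2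

end K

section P

/-- the relators of `P` -/
def PR : Set (FreeGroup (Fin 3)) :=
  let x : FreeGroup (Fin 3) := FreeGroup.of 0
  let y : FreeGroup (Fin 3) := FreeGroup.of 1
  let z : FreeGroup (Fin 3) := FreeGroup.of 2
  {r | r ∈ [y ^ 6,
    x ^ 2 * y * x ^ 2 * y⁻¹,
    (x⁻¹ * y⁻¹ * x * y) ^ 3,
    (x⁻¹ * y ^ 2 * x * y ^ 3) ^ 3,
    (x * y) ^ 8,
    (x * y * x * y ^ 3) ^ 4,
    z ^ 2,
    (z * x) ^ 2,
    (z⁻¹ * (y * x * y * x * (y ^ 2) * x * (y⁻¹))⁻¹ * z * (y * x * y * x * (y ^ 2) * x * (y⁻¹))) * ((x ^ 2)⁻¹),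
    z * (((((y ^ 3) * x * y * x * y)⁻¹ * z * ((y ^ 3) * x * y * x * y)) * x) ^ 3)]}

/-- the abstract group with the ten relators -/
abbrev P : Type := PresentedGroup PR

/-- generator `x` -/
def px : P := PresentedGroup.of 0
/-- generator `y` -/
def py : P := PresentedGroup.of 1
/-- generator `z` -/
def pz : P := PresentedGroup.of 2

theorem mk_eq_one {r : FreeGroup (Fin 3)} (h : r ∈ PR) : PresentedGroup.mk PR r = 1 :=
  (QuotientGroup.eq_one_iff r).2 (subset_normalClosure h)

theorem relP : Rel px py pz := by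
  let x : FreeGroup (Fin 3) := FreeGroup.of 0
  let y : FreeGroup (Fin 3) := FreeGroup.of 1
  let z : FreeGroup (Fin 3) := FreeGroup.of 2
  have hx : PresentedGroup.mk PR x = px := rfl
  have hy : PresentedGroup.mk PR y = py := rfl
  have hz : PresentedGroup.mk PR z = pz := rfl
  constructor
  · have h := mk_eq_one (r := y ^ 6) (List.Mem.head _)
    simpa only [map_mul, map_pow, map_inv, hx, hy, hz] using h
  · have h := mk_eq_one (r := x ^ 2 * y * x ^ 2 * y⁻¹) (List.Mem.tail _ (List.Mem.head _))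
    simpa only [map_mul, map_pow, map_inv, hx, hy, hz] using h
  · have h := mk_eq_one (r := (x⁻¹ * y⁻¹ * x * y) ^ 3) (List.Mem.tail _ (List.Mem.tail _ (List.Mem.head _)))
    simpa only [map_mul, map_pow, map_inv, hx, hy, hz] using h
  · have h := mk_eq_one (r := (x⁻¹ * y ^ 2 * x * y ^ 3) ^ 3) (List.Mem.tail _ (List.Mem.tail _ (List.Mem.tail _ (List.Mem.head _))))
    simpa only [map_mul, map_pow, map_inv, hx, hy, hz] using h
  · have h := mk_eq_one (r := (x * y) ^ 8) (List.Mem.tail _ (List.Mem.tail _ (List.Mem.tail _ (List.Mem.tail _ (List.Mem.head _)))))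
    simpa only [map_mul, map_pow, map_inv, hx, hy, hz] using h
  · have h := mk_eq_one (r := (x * y * x * y ^ 3) ^ 4) (List.Mem.tail _ (List.Mem.tail _ (List.Mem.tail _ (List.Mem.tail _ (List.Mem.tail _ (List.Mem.head _))))))
    simpa only [map_mul, map_pow, map_inv, hx, hy, hz] using h
  · have h := mk_eq_one (r := z ^ 2) (List.Mem.tail _ (List.Mem.tail _ (List.Mem.tail _ (List.Mem.tail _ (List.Mem.tail _ (List.Mem.tail _ (List.Mem.head _)))))))
    simpa only [map_mul, map_pow, map_inv, hx, hy, hz] using h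
  · have h := mk_eq_one (r := (z * x) ^ 2) (List.Mem.tail _ (List.Mem.tail _ (List.Mem.tail _ (List.Mem.tail _ (List.Mem.tail _ (List.Mem.tail _ (List.Mem.tail _ (List.Mem.head _))))))))
    simpa only [map_mul, map_pow, map_inv, hx, hy, hz] using h
  · have h := mk_eq_one (r := (z⁻¹ * (y * x * y * x * (y ^ 2) * x * (y⁻¹))⁻¹ * z * (y * x * y * x * (y ^ 2) * x * (y⁻¹))) * ((x ^ 2)⁻¹)) (List.Mem.tail _ (List.Mem.tail _ (List.Mem.tail _ (List.Mem.tail _ (List.Mem.tail _ (List.Mem.tail _ (List.Mem.tail _ (List.Mem.tail _ (List.Mem.head _)))))))))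
    simpa only [map_mul, map_pow, map_inv, hx, hy, hz] using h
  · have h := mk_eq_one (r := z * (((((y ^ 3) * x * y * x * y)⁻¹ * z * ((y ^ 3) * x * y * x * y)) * x) ^ 3)) (List.Mem.tail _ (List.Mem.tail _ (List.Mem.tail _ (List.Mem.tail _ (List.Mem.tail _ (List.Mem.tail _ (List.Mem.tail _ (List.Mem.tail _ (List.Mem.tail _ (List.Mem.head _))))))))))
    simpa only [map_mul, map_pow, map_inv, hx, hy, hz] using h

theorem closureP : closure ({px, py, pz} : Set P) = ⊤ := by
  have h := PresentedGroup.closure_range_of PR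
  rw [eq_top_iff, ← h, closure_le]
  rintro _ ⟨i, rfl⟩
  fin_cases i
  · exact subset_closure (Or.inl rfl)
  · exact subset_closure (Or.inr (Or.inl rfl))
  · exact subset_closure (Or.inr (Or.inr rfl))

variable {Γ : Type} [Group Γ] {x y z : Γ}

/-- the homomorphism from `P` -/
def lift (h : Rel x y z) : P →* Γ :=
  PresentedGroup.toGroup (f := ![x, y, z]) (by
    intro r hr
    simp only [PR, Set.mem_setOf_eq, List.mem_cons, List.not_mem_nil, or_false] at hr
    have f0 : FreeGroup.lift ![x, y, z] (FreeGroup.of 0) = x := by simp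
    have f1 : FreeGroup.lift ![x, y, z] (FreeGroup.of 1) = y := by simp
    have f2 : FreeGroup.lift ![x, y, z] (FreeGroup.of 2) = z := by simp
    rcases hr with rfl | rfl | rfl | rfl | rfl | rfl | rfl | rfl | rfl | rfl <;>
      simp only [map_mul, map_pow, map_inv, f0, f1, f2]
    · exact h.r1
    · exact h.r2
    · exact h.r3
    · exact h.r4
    · exact h.r5
    · exact h.r6
    · exact h.r7
    · exact h.r8
    · exact h.r9
    · exact h.r10)

theorem lift_x (h : Rel x y z) : lift h px = x := PresentedGroup.toGroup.of _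
theorem lift_y (h : Rel x y z) : lift h py = y := PresentedGroup.toGroup.of _
theorem lift_z (h : Rel x y z) : lift h pz = z := PresentedGroup.toGroup.of _

theorem range_lift (h : Rel x y z) : (lift h).range = closure ({x, y, z} : Set Γ) := by
  rw [MonoidHom.range_eq_map, ← closureP, MonoidHom.map_closure]
  congr 1
  rw [Set.image_insert_eq, Set.image_insert_eq, Set.image_singleton, lift_x, lift_y, lift_z]

end P

end H2.HN
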