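import Mathlib
import Cfsg.Agent.Lib.H64.HSG
import Cfsg.Agent.Lib.H2.HN.KSub

set_option autoImplicit false
set_option maxRecDepth 100000
set_option linter.all false

/-! The action of `⟨x, y, z⟩` on the hundred vectors. -/

namespace H2.HN

open Subgroup H40.PermCode H35.Stem
open H64.HSG (X g code codei G φ XS eX E100 rep_x rep_xi φ_inj gen SA card_G)

/-- code of x -/
def CX : ℕ := 0xa5871083b18b87610e63bad5dc3d8f8ccc27d109d968a4098a779b4eb541a844b3ea0eb02c85529160cb546cfdb1a302a73cce5155889f80229890962aef82641a8c8ba3d4379a851b92cf17ae740d060b8696c014724a4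
/-- code of y -/
def CY : ℕ := 0xbd35cac765980d50560463b7cfb720bd193855ee1c8e9ead696ba2c492d1fab918435182812041589ecfb28ad007d292aaa13060230243d2786a1ba2eda712b6c88d843758836780c8110e0f542814d8f6ab54d31698763
/-- code of y⁻¹ -/
def CYi : ℕ := 0xd9f12ad8cb4d36c59989d2248c0891e2b687712a8eba1bf97622c4433ddd982bdaa3be8308ea8783c22668adda51836080b02db94096b9a2c8bbaaa36bcc12888a73f7ad0ba070cd31006e2906dd30f4af453828a0830
/-- code of z -/
def CZ : ℕ := 0x678710faf7aedc22ba0d8be740bda6a8e427d3a6b568c5c488f19b441942c84493ea0e762c8496f1664bc6ca5235f682ac3d48f954e9803f608908952aeb5136181182e21414264adb9c0f06c374290160e696c00666aa5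
/-- code of z y z⁻¹ -/
def CV : ℕ := 0x8242696ac2118d04c52467739e1a72d494bc57ee547cba01d696b0c47a4c2535541bc9b252a8114da8c7bc8938e9ea0fd28abcbca30819c84a1861b870abb022153584380c83c63cabf58715b812b45dd98c801e756d487
/-- code of its inverse -/
def CVi : ℕ := 0x273e2969ccc44d0519d983b7dccc80b1abe5f5b087a0a1e2469615c43e7b1c9212e1d5ae0e98c7ada9474a1ad1c552850f1afc0ae62651d9bac8ba65a1240e4150aa753808ba8544de224c2e2112dc5de0088d41296dc05

/-- x as a word -/
def wx : W X := [(2, true), (3, false), (5, true), (8, true), (4, false), (4, false), (1, false)]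
/-- y as a word -/
def wy : W X := [(2, true), (8, false), (6, false), (1, false), (7, true), (3, false)]
/-- z y z⁻¹ as a word -/
def wv : W X := [(8, false), (1, false), (4, true), (5, false), (0, true), (0, true), (8, true), (0, true)]

theorem okX : okc 7 100 CX CX = true := by decide +kernel
theorem okY : okc 7 100 CY CYi = true := by decide +kernel
theorem okZ : okc 7 100 CZ CZ = true := by decide +kernel
theorem okV : okc 7 100 CV CVi = true := by decide +kernel
theorem eqX : eqc 7 100 CX (evc 7 100 code codei wx) = true := by decide +kernel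
theorem eqY : eqc 7 100 CY (evc 7 100 code codei wy) = true := by decide +kernel
theorem eqV : eqc 7 100 CV (evc 7 100 code codei wv) = true := by decide +kernel

/-- the elements of `HS` -/
noncomputable def gx : G := ev g wx
/-- the elements of `HS` -/
noncomputable def gy : G := ev g wy
/-- the elements of `HS` -/
noncomputable def gv : G := ev g wv
/-- the permutation `z` -/
noncomputable def sz : Equiv.Perm XS := ofCode E100 7 CZ CZ okZ

theorem rep_w {w : W X} {C : ℕ} (h : eqc 7 100 C (evc 7 100 code codei w) = true) : Rep E100 7 (φ (ev g w)) C := by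
  have h1 : Rep E100 7 (φ (ev g w)) (evc 7 100 code codei w) := by
    rw [ev_hom φ g]
    exact rep_evc (by norm_num) rep_x rep_xi _
  intro p
  rw [h1 p]
  exact ((eqc_iff.1 h) _ (E100.idx_lt p)).symm

theorem rep_gx : Rep E100 7 (φ gx) CX := rep_w eqX
theorem rep_gy : Rep E100 7 (φ gy) CY := rep_w eqY
theorem rep_gv : Rep E100 7 (φ gv) CV := rep_w eqV
theorem rep_sz : Rep E100 7 sz CZ := rep_ofCode okZ

/-- the three permutations x, y, z -/
noncomputable def p3 : Fin 3 → Equiv.Perm XS := ![φ gx, φ gy, sz]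
/-- codes -/
def c3 : Fin 3 → ℕ := ![CX, CY, CZ]
/-- codes of inverses -/
def i3 : Fin 3 → ℕ := ![CX, CYi, CZ]
theorem rep3 : ∀ i, Rep E100 7 (p3 i) (c3 i) := by
  intro i
  fin_cases i
  · exact rep_gx
  · exact rep_gy
  · exact rep_sz
theorem rep3i : ∀ i, Rep E100 7 (p3 i)⁻¹ (i3 i) := by
  intro i
  fin_cases i
  · exact rep_gx.inv okX
  · exact rep_gy.inv okY
  · exact rep_sz.inv okZ
theorem ck3 {w : W (Fin 3)} (h : isOne 7 100 (evc 7 100 c3 i3 w) = true) : ev p3 w = 1 :=
  (Rep.isOne_iff (rep_evc (by norm_num) rep3 rep3i w)).1 h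

/-- letters -/
abbrev tx : Fin 3 × Bool := (0, true)
/-- letters -/
abbrev tX : Fin 3 × Bool := (0, false)
/-- letters -/
abbrev ty : Fin 3 × Bool := (1, true)
/-- letters -/
abbrev tY : Fin 3 × Bool := (1, false)
/-- letters -/
abbrev tz : Fin 3 × Bool := (2, true)
/-- letters -/
abbrev tZ : Fin 3 × Bool := (2, false)

theorem ck_r1 : isOne 7 100 (evc 7 100 c3 i3 [ty, ty, ty, ty, ty, ty]) = true := by decide +kernel

theorem ck_r2 : isOne 7 100 (evc 7 100 c3 i3 [tx, tx, ty, tx, tx, tY]) = true := by decide +kernel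

theorem ck_r3 : isOne 7 100 (evc 7 100 c3 i3 [tX, tY, tx, ty, tX, tY, tx, ty, tX, tY, tx, ty]) = true := by decide +kernel

theorem ck_r4 : isOne 7 100 (evc 7 100 c3 i3 [tX, ty, ty, tx, ty, ty, ty, tX, ty, ty, tx, ty, ty, ty, tX, ty, ty, tx, ty, ty, ty]) = true := by decide +kernel

theorem ck_r5 : isOne 7 100 (evc 7 100 c3 i3 [tx, ty, tx, ty, tx, ty, tx, ty, tx, ty, tx, ty, tx, ty, tx, ty]) = true := by decide +kernel

theorem ck_r6 : isOne 7 100 (evc 7 100 c3 i3 [tx, ty, tx, ty, ty, ty, tx, ty, tx, ty, ty, ty, tx, ty, tx, ty, ty, ty, tx, ty, tx, ty, ty, ty]) = true := by decide +kernel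

theorem ck_r7 : isOne 7 100 (evc 7 100 c3 i3 [tz, tz]) = true := by decide +kernel

theorem ck_r8 : isOne 7 100 (evc 7 100 c3 i3 [tz, tx, tz, tx]) = true := by decide +kernel

theorem ck_r9 : isOne 7 100 (evc 7 100 c3 i3 [tZ, ty, tX, tY, tY, tX, tY, tX, tY, tz, ty, tx, ty, tx, ty, ty, tx, tY, tX, tX]) = true := by decide +kernel

theorem ck_r10 : isOne 7 100 (evc 7 100 c3 i3 [tz, tY, tX, tY, tX, tY, tY, tY, tz, ty, ty, ty, tx, ty, tx, ty, tx, tY, tX, tY, tX, tY, tY, tY, tz, ty, ty, ty, tx, ty, tx, ty, tx, tY, tX, tY, tX, tY, tY, tY, tz, ty, ty, ty, tx, ty, tx, ty, tx]) = true := by decide +kernel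


theorem relPerm : Rel (φ gx) (φ gy) sz := by
  have e : ∀ (w : W (Fin 3)), isOne 7 100 (evc 7 100 c3 i3 w) = true → ev p3 w = 1 := fun w h => ck3 h
  have hx : p3 0 = φ gx := rfl
  have hy : p3 1 = φ gy := rfl
  have hz : p3 2 = sz := rfl
  constructor

  · have h := e _ ck_r1
    simpa only [ev, el, List.map_cons, List.map_nil, List.prod_cons, List.prod_nil, cond_true, cond_false, hx, hy, hz, pow_succ, pow_zero, one_mul, mul_one, mul_assoc, mul_inv_rev, inv_inv] using h

  · have h := e _ ck_r2
    simpa only [ev, el, List.map_cons, List.map_nil, List.prod_cons, List.prod_nil, cond_true, cond_false, hx, hy, hz, pow_succ, pow_zero, one_mul, mul_one, mul_assoc, mul_inv_rev, inv_inv] using h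

  · have h := e _ ck_r3
    simpa only [ev, el, List.map_cons, List.map_nil, List.prod_cons, List.prod_nil, cond_true, cond_false, hx, hy, hz, pow_succ, pow_zero, one_mul, mul_one, mul_assoc, mul_inv_rev, inv_inv] using h

  · have h := e _ ck_r4
    simpa only [ev, el, List.map_cons, List.map_nil, List.prod_cons, List.prod_nil, cond_true, cond_false, hx, hy, hz, pow_succ, pow_zero, one_mul, mul_one, mul_assoc, mul_inv_rev, inv_inv] using h

  · have h := e _ ck_r5
    simpa only [ev, el, List.map_cons, List.map_nil, List.prod_cons, List.prod_nil, cond_true, cond_false, hx, hy, hz, pow_succ, pow_zero, one_mul, mul_one, mul_assoc, mul_inv_rev, inv_inv] using h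

  · have h := e _ ck_r6
    simpa only [ev, el, List.map_cons, List.map_nil, List.prod_cons, List.prod_nil, cond_true, cond_false, hx, hy, hz, pow_succ, pow_zero, one_mul, mul_one, mul_assoc, mul_inv_rev, inv_inv] using h

  · have h := e _ ck_r7
    simpa only [ev, el, List.map_cons, List.map_nil, List.prod_cons, List.prod_nil, cond_true, cond_false, hx, hy, hz, pow_succ, pow_zero, one_mul, mul_one, mul_assoc, mul_inv_rev, inv_inv] using h

  · have h := e _ ck_r8
    simpa only [ev, el, List.map_cons, List.map_nil, List.prod_cons, List.prod_nil, cond_true, cond_false, hx, hy, hz, pow_succ, pow_zero, one_mul, mul_one, mul_assoc, mul_inv_rev, inv_inv] using h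

  · have h := e _ ck_r9
    simpa only [ev, el, List.map_cons, List.map_nil, List.prod_cons, List.prod_nil, cond_true, cond_false, hx, hy, hz, pow_succ, pow_zero, one_mul, mul_one, mul_assoc, mul_inv_rev, inv_inv] using h

  · have h := e _ ck_r10
    simpa only [ev, el, List.map_cons, List.map_nil, List.prod_cons, List.prod_nil, cond_true, cond_false, hx, hy, hz, pow_succ, pow_zero, one_mul, mul_one, mul_assoc, mul_inv_rev, inv_inv] using h


/-- the hundred point action of `P` -/
noncomputable def ψ : P →* Equiv.Perm XS := lift relPerm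

theorem ψ_x : ψ px = φ gx := lift_x relPerm
theorem ψ_y : ψ py = φ gy := lift_y relPerm
theorem ψ_z : ψ pz = sz := lift_z relPerm

theorem conj_z : sz * φ gy * sz⁻¹ = φ gv := by
  have h : eqc 7 100 (comp 7 100 (comp 7 100 CZ CY) CZ) CV = true := by decide +kernel
  exact (Rep.eq_iff (((rep_sz.mul rep_gy).mul (rep_sz.inv okZ))) rep_gv).1 h

/-- x, y, v in `G` -/
noncomputable def g3 : Fin 3 → G := ![gx, gy, gv]
/-- codes of x, y, v -/
def d3 : Fin 3 → ℕ := ![CX, CY, CV]
/-- codes of inverses -/
def j3 : Fin 3 → ℕ := ![CX, CYi, CVi]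
theorem repg3 : ∀ i, Rep E100 7 (φ (g3 i)) (d3 i) := by
  intro i
  fin_cases i
  · exact rep_gx
  · exact rep_gy
  · exact rep_gv
theorem repg3i : ∀ i, Rep E100 7 (φ (g3 i))⁻¹ (j3 i) := by
  intro i
  fin_cases i
  · exact rep_gx.inv okX
  · exact rep_gy.inv okY
  · exact rep_gv.inv okV
theorem eq3 {w : W (Fin 3)} {i : X} (h : eqc 7 100 (code i) (evc 7 100 d3 j3 w) = true) : g i = ev g3 w := by
  apply φ_inj
  rw [ev_hom φ g3]
  exact (Rep.eq_iff (rep_x i) (rep_evc (by norm_num) repg3 repg3i w)).1 h

theorem g_eq4 : g 4 = ev g3 [(1, false), (0, true), (2, false), (1, true), (1, true), (1, true), (2, true), (1, true), (2, false), (0, true), (2, true), (1, true), (0, true), (1, true)] := eq3 (by decide +kernel)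

theorem g_eq5 : g 5 = ev g3 [(2, false), (0, true), (1, false), (2, true), (0, true), (1, false), (2, false), (1, false), (2, true), (0, true), (1, false), (0, true), (1, true), (2, true)] := eq3 (by decide +kernel)

theorem g_eq6 : g 6 = ev g3 [(0, true), (1, true), (2, false), (1, false), (2, true), (1, true), (1, true), (2, true), (1, true), (0, true), (1, false), (1, false), (2, false), (1, false), (0, true), (1, false), (0, true)] := eq3 (by decide +kernel)

theorem g_eq7 : g 7 = ev g3 [(2, true), (2, true), (1, true), (2, true), (2, true), (2, true), (1, true), (0, true), (1, true), (1, true), (2, true), (2, true)] := eq3 (by decide +kernel)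

theorem g_eq8 : g 8 = ev g3 [(1, false), (2, true), (1, true), (0, true), (2, true), (2, true), (2, true), (1, false), (2, false), (1, false), (1, false), (2, false), (1, false)] := eq3 (by decide +kernel)


theorem closure_g3 : closure (Set.range g3) = ⊤ := by
  have hm : ∀ w : W (Fin 3), ev g3 w ∈ closure (Set.range g3) := by
    intro w
    unfold ev
    apply list_prod_mem
    intro a ha
    obtain ⟨b, _, rfl⟩ := List.mem_map.1 ha
    rcases b with ⟨i, b⟩
    cases b
    · exact inv_mem (subset_closure ⟨i, rfl⟩)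
    · exact subset_closure ⟨i, rfl⟩
  rw [eq_top_iff, ← gen]
  unfold Kl
  rw [closure_le]
  rintro a ⟨i, hi, rfl⟩
  fin_cases i
  · exact absurd hi (by decide)
  · exact absurd hi (by decide)
  · exact absurd hi (by decide)
  · exact absurd hi (by decide)

  · exact (g_eq4 ▸ hm _ : g 4 ∈ closure (Set.range g3))

  · exact (g_eq5 ▸ hm _ : g 5 ∈ closure (Set.range g3))

  · exact (g_eq6 ▸ hm _ : g 6 ∈ closure (Set.range g3))

  · exact (g_eq7 ▸ hm _ : g 7 ∈ closure (Set.range g3))

  · exact (g_eq8 ▸ hm _ : g 8 ∈ closure (Set.range g3))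


/-- an element with exactly one fixed point -/
def wf : W X := [(4, true), (8, false)]
/-- the fixed point -/
def fixPt : ℕ := 94
theorem fix_wf : allN (fun i => !(Nat.beq (tab 7 (evc 7 100 code codei wf) i) i) || Nat.beq i 94) 100 = true := by decide +kernel
theorem fix_wf' : Nat.beq (tab 7 (evc 7 100 code codei wf) 94) 94 = true := by decide +kernel

end H2.HN
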