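import Mathlib
import Cfsg.Agent.Lib.H2.HN.Psi
import Cfsg.Agent.Lib.H2.HN.Pres
import Cfsg.Agent.Lib.H2.HN.Abs
import Cfsg.Agent.Lib.H10.FiThree

set_option autoImplicit false
set_option maxRecDepth 100000
set_option linter.all false

/-! The group `2.HS.2` on generators `x, y, z`. -/

namespace H2.HN

open H40.PermCode H35.Stem
open H64.HSG (X g code codei G φ XS eX E100 rep_x rep_xi φ_inj gen SA card_G finXS finG simple_G)
open Subgroup (center zpowers subset_closure mem_closure_of_mem)

instance simpleG : IsSimpleGroup G := simple_G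

/-! ### order bounds for `P` -/

theorem u_central (a : P) : a * px ^ 2 = px ^ 2 * a :=
  (relP.u_central (a := a) (by rw [closureP]; trivial)).eq

instance normal_u : (zpowers (px ^ 2)).Normal := ⟨fun a ha b => by
  obtain ⟨k, rfl⟩ := Subgroup.mem_zpowers_iff.1 ha
  have h : Commute b (px ^ 2) := u_central b
  rw [(h.zpow_right k).eq, mul_inv_cancel_right]
  exact Subgroup.zpow_mem _ (Subgroup.mem_zpowers _) k⟩

theorem card_zu : Nat.card (zpowers (px ^ 2)) ≤ 2 ∧ Nat.card (zpowers (px ^ 2)) ≠ 0 := by
  rw [Nat.card_zpowers]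
  have h : orderOf (px ^ 2) ∣ 2 := orderOf_dvd_of_pow_eq_one (by rw [pow_two]; exact relP.u2)
  exact ⟨Nat.le_of_dvd (by norm_num) h, fun h0 => by rw [h0] at h; simp at h⟩

theorem card_P : Nat.card P ≠ 0 ∧ Nat.card P ≤ 266112000 * Nat.card (zpowers (px ^ 2)) := by
  let q : P →* P ⧸ zpowers (px ^ 2) := QuotientGroup.mk' _
  have hq := relP.map q
  have h1 : q px ^ 2 = 1 := by
    rw [← map_pow]
    exact (QuotientGroup.eq_one_iff _).2 (Subgroup.mem_zpowers _)
  have h2 := card_bar hq h1
  have h3 : Subgroup.closure ({q px, q py, q pz} : Set (P ⧸ zpowers (px ^ 2))) = ⊤ := by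
    have : (Subgroup.closure ({px, py, pz} : Set P)).map q = ⊤ := by
      rw [closureP, ← MonoidHom.range_eq_map]
      exact MonoidHom.range_eq_top.2 (QuotientGroup.mk'_surjective _)
    rw [MonoidHom.map_closure, Set.image_insert_eq, Set.image_insert_eq, Set.image_singleton] at this
    exact this
  rw [h3, Subgroup.card_top] at h2
  rw [Subgroup.card_eq_card_quotient_mul_card_subgroup (zpowers (px ^ 2))]
  exact ⟨mul_ne_zero h2.2 card_zu.2, Nat.mul_le_mul h2.1 le_rfl⟩

instance finP : Finite P := Nat.finite_of_card_ne_zero card_P.1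

/-! ### the image -/

/-- the subgroup `K` of `P` -/
abbrev K : Subgroup P := KK px py pz

theorem map_K : K.map ψ = φ.range := by
  have h1 : K.map ψ = Subgroup.closure ({φ gx, φ gy, φ gv} : Set (Equiv.Perm XS)) := by
    unfold K KK
    rw [MonoidHom.map_closure, Set.image_insert_eq, Set.image_insert_eq, Set.image_singleton, map_mul, map_mul, map_inv,
      ψ_x, ψ_y, ψ_z, conj_z]
  have h2 : φ.range = Subgroup.closure (φ '' (Set.range g3)) := by
    rw [MonoidHom.range_eq_map, ← closure_g3, MonoidHom.map_closure]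
  rw [h1, h2]
  congr 1
  ext a
  constructor
  · rintro (rfl | rfl | rfl)
    · exact ⟨gx, ⟨0, rfl⟩, rfl⟩
    · exact ⟨gy, ⟨1, rfl⟩, rfl⟩
    · exact ⟨gv, ⟨2, rfl⟩, rfl⟩
  · rintro ⟨_, ⟨i, rfl⟩, rfl⟩
    fin_cases i
    · exact Or.inl rfl
    · exact Or.inr (Or.inl rfl)
    · exact Or.inr (Or.inr rfl)

/-- isomorphism onto the image -/
noncomputable def eφ : G ≃* φ.range := MonoidHom.ofInjective φ_inj

theorem φ_eφ (a : φ.range) : φ (eφ.symm a) = a := by
  have h : eφ (eφ.symm a) = a := eφ.apply_symm_apply a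
  exact congrArg Subtype.val h

/-- `K → G` -/
noncomputable def f : K →* G :=
  eφ.symm.toMonoidHom.comp ((ψ.comp K.subtype).codRestrict φ.range (fun k => by
    rw [← map_K]; exact Subgroup.mem_map_of_mem ψ k.2))

theorem φ_f (k : K) : φ (f k) = ψ k := φ_eφ _

theorem f_surj : Function.Surjective f := by
  intro a
  have h : φ a ∈ K.map ψ := by rw [map_K]; exact ⟨a, rfl⟩
  obtain ⟨k, hk, hka⟩ := h
  refine ⟨⟨k, hk⟩, φ_inj ?_⟩
  rw [φ_f]
  exact hka

theorem f_eq_one {k : K} : f k = 1 ↔ ψ k = 1 := by
  rw [← φ_f]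
  constructor
  · intro h; rw [h, map_one]
  · intro h; apply φ_inj; rw [h, map_one]

/-- `z` is an odd permutation -/
theorem sz_sign [Fintype XS] [DecidableEq XS] : Equiv.Perm.sign sz = -1 := by
  have h2 : sz ^ 2 = 1 := by
    have h := ck3 (w := [(2, true), (2, true)]) (by decide +kernel)
    have h' : sz * (sz * 1) = 1 := h
    rw [pow_two]
    rwa [mul_one] at h'
  have hsup : sz.support.card = 70 := by
    have h1 : sz.support = (Finset.univ.filter (fun i : Fin 100 => Nat.beq (tab 7 CZ i.1) i.1 = false)).map eX.toEmbedding := by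
      ext p
      obtain ⟨i, rfl⟩ := eX.surjective p
      have hi : E100.idx (eX i) = i.1 := by
        show (eX.symm (eX i)).1 = i.1
        rw [Equiv.symm_apply_apply]
      rw [Equiv.Perm.mem_support]
      simp only [Finset.mem_map, Finset.mem_filter, Finset.mem_univ, true_and, Equiv.coe_toEmbedding,
        EmbeddingLike.apply_eq_iff_eq, exists_eq_right]
      have hr := rep_sz (eX i)
      rw [hi] at hr
      constructor
      · intro hne
        cases hb : Nat.beq (tab 7 CZ i.1) i.1 with
        | false => rfl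
        | true =>
          exfalso
          apply hne
          apply E100.idx_injective
          rw [hr, hi]
          exact Nat.eq_of_beq_eq_true hb
      · intro hb he
        rw [he, hi] at hr
        rw [← hr] at hb
        have : Nat.beq i.1 i.1 = true := Nat.beq_refl _
        rw [hb] at this
        exact absurd this (by decide)
    rw [h1, Finset.card_map]
    decide +kernel
  have hne : sz ≠ 1 := by
    intro h
    rw [h, Equiv.Perm.support_one, Finset.card_empty] at hsup
    omega
  have ho : orderOf sz = 2 := orderOf_eq_prime h2 hne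
  obtain ⟨n, hn⟩ := Equiv.Perm.cycleType_prime_order (σ := sz) (by rw [ho]; exact Nat.prime_two)
  have hs := Equiv.Perm.sum_cycleType sz
  rw [hn, hsup, Multiset.sum_replicate, ho, smul_eq_mul] at hs
  have hn35 : n + 1 = 35 := by omega
  rw [Equiv.Perm.sign_of_cycleType, hn, hn35, ho]
  simp only [Multiset.sum_replicate, Multiset.card_replicate, smul_eq_mul]
  decide

theorem sz_not : sz ∉ φ.range := by
  classical
  haveI : Fintype XS := Fintype.ofFinite XS
  rintro ⟨a, ha⟩
  let s : G →* ℤˣ := (Equiv.Perm.sign).comp φ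
  have hs : s.ker = ⊤ := by
    rcases (inferInstance : s.ker.Normal).eq_bot_or_eq_top with h | h
    · exfalso
      have h1 : Function.Injective s := (MonoidHom.ker_eq_bot_iff s).1 h
      have h2 := Nat.card_le_card_of_injective s h1
      rw [card_G] at h2
      have h3 : Nat.card ℤˣ = 2 := by rw [Nat.card_eq_fintype_card]; rfl
      omega
    · exact h
  have h1 : s a = 1 := by
    have : a ∈ s.ker := by rw [hs]; trivial
    exact this
  have h2 : Equiv.Perm.sign (φ a) = 1 := h1
  rw [ha, sz_sign] at h2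
  exact absurd h2 (by decide)

/-! ### the centraliser of `HS` in the symmetric group -/

theorem trans_XS (p : XS) : ∃ a : G, φ a (eX ⟨0, by norm_num⟩) = p := by
  have key : ∀ i : ℕ, ∀ hi : i < 100, ∃ a : G, φ a (eX ⟨0, by norm_num⟩) = eX ⟨i, hi⟩ := by
    intro i
    induction i using Nat.strong_induction_on with
    | _ i ih =>
      intro hi
      have h := (allN_iff _ _).mp H64.HSG.par_all i hi
      simp only [Bool.or_eq_true, Bool.and_eq_true, Nat.beq_eq, Nat.blt_eq] at h
      rcases h with h | ⟨h1, _, h3⟩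
      · subst h
        exact ⟨1, by rw [map_one]; rfl⟩
      · obtain ⟨a, ha⟩ := ih _ h1 (lt_trans h1 hi)
        refine ⟨g (Fin.ofNat 9 (tab 4 H64.HSG.PX i)) * a, ?_⟩
        rw [map_mul, Equiv.Perm.mul_apply, ha]
        apply E100.idx_injective
        rw [rep_x]
        have e1 : E100.idx (eX ⟨tab 7 H64.HSG.PJ i, lt_trans h1 hi⟩) = tab 7 H64.HSG.PJ i := by
          show (eX.symm (eX _)).1 = _
          rw [Equiv.symm_apply_apply]
        have e2 : E100.idx (eX ⟨i, hi⟩) = i := by
          show (eX.symm (eX _)).1 = _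
          rw [Equiv.symm_apply_apply]
        rw [e1, e2, h3]
  obtain ⟨i, rfl⟩ := eX.surjective p
  exact key i.1 i.2

theorem cent_trivial {σ : Equiv.Perm XS} (h : ∀ a : G, σ * φ a = φ a * σ) : σ = 1 := by
  have hr : Rep E100 7 (φ (ev g wf)) (evc 7 100 code codei wf) := by
    rw [ev_hom φ g]
    exact rep_evc (by norm_num) rep_x rep_xi _
  have hfix := (allN_iff _ _).mp fix_wf
  -- the unique fixed point
  have huniq : ∀ p q : XS, φ (ev g wf) p = p → φ (ev g wf) q = q → p = q := by
    have key : ∀ p : XS, φ (ev g wf) p = p → E100.idx p = fixPt := by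
      intro p hp
      have h1 := hr p
      rw [hp] at h1
      have h2 := hfix (E100.idx p) (E100.idx_lt p)
      rw [← h1] at h2
      have h3 : Nat.beq (E100.idx p) (E100.idx p) = true := Nat.beq_refl _
      rw [h3] at h2
      simp only [Bool.not_true, Bool.false_or] at h2
      exact Nat.eq_of_beq_eq_true h2
    intro p q hp hq
    exact E100.idx_injective ((key p hp).trans (key q hq).symm)
  have hlt : fixPt < 100 := by decide
  set p0 : XS := E100.pt fixPt with hp0
  have hp : φ (ev g wf) p0 = p0 := by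
    apply E100.idx_injective
    rw [hr, hp0, E100.idx_pt _ hlt]
    exact Nat.eq_of_beq_eq_true fix_wf'
  have hσ : σ p0 = p0 := by
    apply huniq
    · have := congrArg (fun τ : Equiv.Perm XS => τ p0) (h (ev g wf))
      simp only [Equiv.Perm.mul_apply] at this
      rw [hp] at this
      exact this.symm
    · exact hp
  ext1 q
  obtain ⟨a, ha⟩ := trans_XS q
  obtain ⟨b, hb⟩ := trans_XS p0
  have hq : q = φ (a * b⁻¹) p0 := by
    rw [map_mul, map_inv, Equiv.Perm.mul_apply]
    have e : (φ b)⁻¹ p0 = eX ⟨0, by norm_num⟩ := by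
      rw [← hb]; exact (φ b).symm_apply_apply _
    rw [e, ha]
  have := congrArg (fun τ : Equiv.Perm XS => τ p0) (h (a * b⁻¹))
  simp only [Equiv.Perm.mul_apply] at this
  rw [hσ, ← hq] at this
  exact this

end H2.HN
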