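import Mathlib
import Cfsg.Agent.Lib.H2.HN.Core
import Cfsg.Agent.Lib.H64.HSMult

set_option autoImplicit false
set_option maxRecDepth 100000
set_option linter.all false

/-! The group `2.HS.2` on generators `x, y, z`: order, embedding, double cover. -/

namespace H2.HN

open H64.HSG (X g code codei G φ XS eX E100 rep_x rep_xi φ_inj gen SA card_G finXS finG simple_G)
open Subgroup (center zpowers subset_closure)

theorem card_range_φ : Nat.card φ.range = 44352000 := by
  rw [← Nat.card_congr eφ.toEquiv, card_G]

theorem card_range_ψ : 88704000 ≤ Nat.card ψ.range := by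
  have hle : φ.range ≤ ψ.range := by
    rw [← map_K]; exact Subgroup.map_le_range ψ K
  have h1 : Nat.card φ.range * φ.range.relIndex ψ.range = Nat.card ψ.range := by
    rw [← Subgroup.relIndex_bot_left, ← Subgroup.relIndex_bot_left]
    exact Subgroup.relIndex_mul_relIndex _ _ _ bot_le hle
  have h2 : φ.range.relIndex ψ.range ≠ 1 := by
    rw [Ne, Subgroup.relIndex_eq_one]
    intro h
    apply sz_not
    apply h
    exact ⟨pz, ψ_z⟩
  have h3 : φ.range.relIndex ψ.range ≠ 0 := by
    intro h0
    rw [h0, mul_zero] at h1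
    exact Nat.card_pos.ne' h1.symm
  rw [← h1, card_range_φ]
  have : 2 ≤ φ.range.relIndex ψ.range := by omega
  omega

theorem card_ker_ψ : Nat.card ψ.ker ≤ 3 * Nat.card (zpowers (px ^ 2)) := by
  have h1 : Nat.card ψ.ker * Nat.card ψ.range = Nat.card P := by
    rw [← Subgroup.index_ker]; exact Subgroup.card_mul_index _
  have h2 := card_P.2
  have h3 := card_range_ψ
  have h4 : Nat.card ψ.ker * 88704000 ≤ 266112000 * Nat.card (zpowers (px ^ 2)) :=
    (Nat.mul_le_mul le_rfl h3).trans (h1.le.trans h2)
  refine Nat.le_of_mul_le_mul_right (c := 88704000) (h4.trans (le_of_eq ?_)) (by norm_num)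
  ring

/-- `x²` as an element of `K` -/
def uK : K := ⟨px ^ 2, pow_mem (x_mem _ _ _) 2⟩

theorem f_uK : f uK = 1 := by
  rw [f_eq_one]
  show ψ (px ^ 2) = 1
  have h := ck3 (w := [(0, true), (0, true)]) (by decide +kernel)
  have h' : φ gx * (φ gx * 1) = 1 := h
  rw [map_pow, ψ_x, pow_two]
  rwa [mul_one] at h'

theorem uK_central : uK ∈ center K := by
  rw [Subgroup.mem_center_iff]
  intro k
  exact Subtype.ext (u_central k)

theorem perfK : _root_.commutator K = ⊤ := perfect_K' relP closureP

theorem card_ker_f_le : Nat.card f.ker ≤ Nat.card ψ.ker := by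
  apply Nat.card_le_card_of_injective (fun k : f.ker => (⟨(k : K), f_eq_one.1 k.2⟩ : ψ.ker))
  intro a b h
  exact Subtype.ext (Subtype.ext (congrArg (fun w : ψ.ker => (w : P)) h))

theorem ker_f_central : f.ker ≤ center K := by
  have h1 := card_ker_f_le.trans card_ker_ψ
  have h2 := card_zu
  refine ker_central f f_surj perfK (by rw [card_G]; norm_num) (by omega) uK f_uK uK_central ?_
  by_cases hu : px ^ 2 = 1
  · left
    have : Nat.card (zpowers (px ^ 2)) = 1 := by
      rw [Nat.card_zpowers, hu, orderOf_one]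
    omega
  · right
    intro h
    exact hu (congrArg Subtype.val h)

theorem card_ker_f : Nat.card f.ker ≤ 2 :=
  card_le_two_of_mult H64.HSM.multG f f_surj perfK ker_f_central

/-- every homomorphism from `P` not killing `x²` is injective -/
theorem inj {Q : Type} [Group Q] (π : P →* Q) (h : π (px ^ 2) ≠ 1) : Function.Injective π := by
  have hu1 : uK ≠ 1 := by
    intro h1
    apply h
    have : px ^ 2 = 1 := congrArg Subtype.val h1
    rw [this, map_one]
  have hc2 : Nat.card f.ker = 2 := by
    have h2 : 1 < Nat.card f.ker := by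
      rw [Finite.one_lt_card_iff_nontrivial, Subgroup.nontrivial_iff_exists_ne_one]
      exact ⟨uK, f_uK, hu1⟩
    have := card_ker_f
    omega
  have hker : ∀ k ∈ f.ker, k = 1 ∨ k = uK := by
    intro k hk
    by_contra hcon
    push Not at hcon
    obtain ⟨w, _, hw⟩ := (Nat.card_eq_two_iff' (1 : f.ker)).1 hc2
    have h1 := hw ⟨k, hk⟩ (fun h => hcon.1 (congrArg Subtype.val h))
    have h2 := hw ⟨uK, f_uK⟩ (fun h => hu1 (congrArg Subtype.val h))
    exact hcon.2 (congrArg Subtype.val (h1.trans h2.symm))
  -- intersection with K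
  have hMK : ∀ k ∈ K, π k = 1 → k = 1 := by
    let L : Subgroup K := (π.comp K.subtype).ker
    have hL : L.Normal := inferInstance
    have hLf : (L.map f).Normal := Subgroup.Normal.map hL f f_surj
    rcases hLf.eq_bot_or_eq_top with hb | ht
    · intro k hk hπ
      have h1 : (⟨k, hk⟩ : K) ∈ f.ker := by
        have : f ⟨k, hk⟩ ∈ L.map f := Subgroup.mem_map_of_mem f (show π k = 1 from hπ)
        rw [hb] at this
        exact this
      rcases hker _ h1 with h2 | h2
      · exact congrArg Subtype.val h2
      · exfalso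
        apply h
        have : k = px ^ 2 := congrArg Subtype.val h2
        rw [← this]; exact hπ
    · exfalso
      have hsup : f.ker ⊔ L = ⊤ := by
        rw [eq_top_iff]
        intro a _
        have : f a ∈ L.map f := by rw [ht]; trivial
        obtain ⟨b, hb, hab⟩ := this
        have h5 : a * b⁻¹ ∈ f.ker := by
          rw [MonoidHom.mem_ker, map_mul, map_inv, hab, mul_inv_cancel]
        have h6 : a = (a * b⁻¹) * b := by group
        rw [h6]
        exact mul_mem (Subgroup.mem_sup_left h5) (Subgroup.mem_sup_right hb)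
      have hT := eq_top_of_sup perfK f.ker L ker_f_central hsup
      have : uK ∈ L := by rw [hT]; trivial
      exact h this
  rw [injective_iff_map_eq_one]
  intro m hm
  -- m centralises K
  haveI := normal_K relP closureP
  have hcK : ∀ k ∈ K, m * k = k * m := by
    intro k hk
    have h1 : m * k * m⁻¹ * k⁻¹ ∈ K := by
      have : m * k * m⁻¹ ∈ K := (normal_K relP closureP).conj_mem k hk m
      exact mul_mem this (inv_mem hk)
    have h2 : π (m * k * m⁻¹ * k⁻¹) = 1 := by
      rw [map_mul, map_mul, map_mul, map_inv, map_inv, hm]; group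
    have h3 := hMK _ h1 h2
    calc m * k = (m * k * m⁻¹ * k⁻¹) * (k * m) := by group
      _ = k * m := by rw [h3, one_mul]
  have hψ : ψ m = 1 := by
    apply cent_trivial
    intro a
    obtain ⟨k, rfl⟩ := f_surj a
    rw [φ_f, ← map_mul, ← map_mul, hcK k k.2]
  rcases mem_or relP (g := m) (by rw [closureP]; trivial) with h1 | h1
  · exact hMK m h1 hm
  · exfalso
    apply sz_not
    have h2 : ψ (m * pz⁻¹) ∈ φ.range := by
      rw [← map_K]; exact Subgroup.mem_map_of_mem ψ h1
    rw [map_mul, hψ, one_mul, map_inv, ψ_z] at h2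
    exact (Subgroup.inv_mem_iff _).1 h2

theorem pz_not : pz ∉ K := by
  intro h
  apply sz_not
  rw [← map_K, ← ψ_z]
  exact Subgroup.mem_map_of_mem ψ h

theorem index_K : K.index = 2 := by
  rw [Subgroup.index_eq_two_iff]
  refine ⟨pz⁻¹, fun b => ?_⟩
  by_cases hb : b ∈ K
  · refine Or.inr ⟨hb, fun h => ?_⟩
    have : pz⁻¹ ∈ K := (Subgroup.mul_mem_cancel_left _ hb).1 h
    exact pz_not ((Subgroup.inv_mem_iff _).1 this)
  · rcases mem_or relP (g := b) (by rw [closureP]; trivial) with h1 | h1
    · exact absurd h1 hb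
    · exact Or.inl ⟨h1, hb⟩

theorem card_K {Q : Type} [Group Q] (π : P →* Q) (h : π (px ^ 2) ≠ 1) : Nat.card f.ker = 2 ∧ Nat.card K = 88704000 ∧ Nat.card P = 177408000 := by
  have hu1 : uK ≠ 1 := by
    intro h1
    apply h
    have : px ^ 2 = 1 := congrArg Subtype.val h1
    rw [this, map_one]
  have hc2 : Nat.card f.ker = 2 := by
    have h2 : 1 < Nat.card f.ker := by
      rw [Finite.one_lt_card_iff_nontrivial, Subgroup.nontrivial_iff_exists_ne_one]
      exact ⟨uK, f_uK, hu1⟩
    have := card_ker_f
    omega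
  have h1 : Nat.card f.ker * f.ker.index = Nat.card K := Subgroup.card_mul_index _
  rw [hc2, Subgroup.index_ker, MonoidHom.range_eq_top.2 f_surj, Subgroup.card_top, card_G] at h1
  have h2 : Nat.card K * K.index = Nat.card P := Subgroup.card_mul_index _
  rw [index_K] at h2
  exact ⟨hc2, by omega, by omega⟩

theorem nsdc_K {Q : Type} [Group Q] (π : P →* Q) (h : π (px ^ 2) ≠ 1) : Cfsg.IsNonsplitDoubleCover K Cfsg.Spor.HS := by
  refine nsdc ?_ H9.HSOut.hsEquiv f f_surj perfK ker_f_central (card_K π h).1
  by_contra hcon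
  push Not at hcon
  haveI : IsMulCommutative G := ⟨⟨hcon⟩⟩
  have hp : (Nat.card G).Prime := by
    letI : CommGroup G := { (inferInstance : Group G) with mul_comm := hcon }
    exact IsSimpleGroup.prime_card
  rw [card_G] at hp
  exact absurd hp (by norm_num)

/-- **main theorem**: in any group, elements `x, y, z` satisfying the ten relators with `x² ≠ 1` generate a group of
order 177408000 having a subgroup of index two which is a non-split double cover of `HS` -/
theorem main {Γ : Type} [Group Γ] {x y z : Γ} (h : Rel x y z) (hx : x ^ 2 ≠ 1) (N : Subgroup Γ)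
    (hN : N = Subgroup.closure ({x, y, z} : Set Γ)) :
    Function.Injective (lift h) ∧ Nat.card N = 177408000 ∧
      ∃ K : Subgroup N, K.Normal ∧ K.index = 2 ∧ Cfsg.IsNonsplitDoubleCover K Cfsg.Spor.HS := by
  have hu : lift h (px ^ 2) ≠ 1 := by rw [map_pow, lift_x]; exact hx
  have hinj := inj (lift h) hu
  let e : P ≃* N := (MonoidHom.ofInjective hinj).trans
    (MulEquiv.subgroupCongr ((range_lift h).trans hN.symm))
  refine ⟨hinj, ?_, K.map e.toMonoidHom, ?_, ?_, ?_⟩
  · rw [← Nat.card_congr e.toEquiv]
    exact (card_K _ hu).2.2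
  · exact Subgroup.Normal.map (normal_K relP closureP) _ e.surjective
  · rw [← index_K]
    exact Subgroup.index_map_of_bijective e.bijective K
  · exact H10.FiThree.nsdc_congr (K.equivMapOfInjective _ e.injective) (nsdc_K _ hu)

end H2.HN
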