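import Mathlib
import Cfsg.Agent.Lib.H2.HN.Rel
import Cfsg.Prelude.Def_Spor_HN

set_option autoImplicit false
set_option maxRecDepth 10000
set_option linter.all false

/-! In the presented Harada–Norton group: the ten relators, and `x² ≠ 1` unless the group is trivial. -/

namespace H2.HN

/-- the presented group -/
abbrev HNG : Type := PresentedGroup (Cfsg.Spor.coxRelators Cfsg.Spor.HN.edges ∪ {r | r ∈ Cfsg.Spor.HN.extra})

/-- quotient map -/
abbrev mkHN : FreeGroup Cfsg.Spor.HN.Gen →* HNG :=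
  PresentedGroup.mk (Cfsg.Spor.coxRelators Cfsg.Spor.HN.edges ∪ {r | r ∈ Cfsg.Spor.HN.extra})

/-- generator -/
def hx : HNG := mkHN Cfsg.Spor.HN.x
/-- generator -/
def hy : HNG := mkHN Cfsg.Spor.HN.y
/-- generator -/
def hz : HNG := mkHN Cfsg.Spor.HN.z
/-- generator -/
def ht : HNG := mkHN Cfsg.Spor.HN.t

theorem mkHN_eq_one {r : FreeGroup Cfsg.Spor.HN.Gen} (h : r ∈ Cfsg.Spor.HN.extra) : mkHN r = 1 :=
  (QuotientGroup.eq_one_iff r).2 (Subgroup.subset_normalClosure (Or.inr h))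

open Cfsg.Spor.HN in
theorem relHN : Rel hx hy hz ∧ ht ^ 5 = 1 ∧ (hx⁻¹ * ht * hx) * ht ^ 2 = 1 ∧ ht⁻¹ * hy⁻¹ * ht * hy = 1 ∧ (hz * ht) ^ 3 = 1 := by
  have ex : mkHN x = hx := rfl
  have ey : mkHN y = hy := rfl
  have ez : mkHN z = hz := rfl
  have et : mkHN t = ht := rfl
  refine ⟨⟨?_, ?_, ?_, ?_, ?_, ?_, ?_, ?_, ?_, ?_⟩, ?_, ?_, ?_, ?_⟩
  · have h := mkHN_eq_one (r := y ^ 6) (List.Mem.head _)
    simpa only [map_mul, map_pow, map_inv, ex, ey, ez, et] using h
  · have h := mkHN_eq_one (r := (x ^ 2) * y * (x ^ 2) * (y⁻¹)) (List.Mem.tail _ (List.Mem.head _))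
    simpa only [map_mul, map_pow, map_inv, ex, ey, ez, et] using h
  · have h := mkHN_eq_one (r := (x⁻¹ * y⁻¹ * x * y) ^ 3) (List.Mem.tail _ (List.Mem.tail _ (List.Mem.head _)))
    simpa only [map_mul, map_pow, map_inv, ex, ey, ez, et] using h
  · have h := mkHN_eq_one (r := ((x⁻¹) * (y ^ 2) * x * (y ^ 3)) ^ 3) (List.Mem.tail _ (List.Mem.tail _ (List.Mem.tail _ (List.Mem.head _))))
    simpa only [map_mul, map_pow, map_inv, ex, ey, ez, et] using h
  · have h := mkHN_eq_one (r := (x * y) ^ 8) (List.Mem.tail _ (List.Mem.tail _ (List.Mem.tail _ (List.Mem.tail _ (List.Mem.head _)))))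
    simpa only [map_mul, map_pow, map_inv, ex, ey, ez, et] using h
  · have h := mkHN_eq_one (r := (x * y * x * (y ^ 3)) ^ 4) (List.Mem.tail _ (List.Mem.tail _ (List.Mem.tail _ (List.Mem.tail _ (List.Mem.tail _ (List.Mem.head _))))))
    simpa only [map_mul, map_pow, map_inv, ex, ey, ez, et] using h
  · have h := mkHN_eq_one (r := z ^ 2) (List.Mem.tail _ (List.Mem.tail _ (List.Mem.tail _ (List.Mem.tail _ (List.Mem.tail _ (List.Mem.tail _ (List.Mem.head _)))))))
    simpa only [map_mul, map_pow, map_inv, ex, ey, ez, et] using h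
  · have h := mkHN_eq_one (r := (z * x) ^ 2) (List.Mem.tail _ (List.Mem.tail _ (List.Mem.tail _ (List.Mem.tail _ (List.Mem.tail _ (List.Mem.tail _ (List.Mem.tail _ (List.Mem.head _))))))))
    simpa only [map_mul, map_pow, map_inv, ex, ey, ez, et] using h
  · have h := mkHN_eq_one (r := (z⁻¹ * (y * x * y * x * (y ^ 2) * x * (y⁻¹))⁻¹ * z * (y * x * y * x * (y ^ 2) * x * (y⁻¹))) * ((x ^ 2)⁻¹)) (List.Mem.tail _ (List.Mem.tail _ (List.Mem.tail _ (List.Mem.tail _ (List.Mem.tail _ (List.Mem.tail _ (List.Mem.tail _ (List.Mem.tail _ (List.Mem.head _)))))))))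
    simpa only [map_mul, map_pow, map_inv, ex, ey, ez, et] using h
  · have h := mkHN_eq_one (r := z * (((((y ^ 3) * x * y * x * y)⁻¹ * z * ((y ^ 3) * x * y * x * y)) * x) ^ 3)) (List.Mem.tail _ (List.Mem.tail _ (List.Mem.tail _ (List.Mem.tail _ (List.Mem.tail _ (List.Mem.tail _ (List.Mem.tail _ (List.Mem.tail _ (List.Mem.tail _ (List.Mem.head _))))))))))
    simpa only [map_mul, map_pow, map_inv, ex, ey, ez, et] using h
  · have h := mkHN_eq_one (r := t ^ 5) (List.Mem.tail _ (List.Mem.tail _ (List.Mem.tail _ (List.Mem.tail _ (List.Mem.tail _ (List.Mem.tail _ (List.Mem.tail _ (List.Mem.tail _ (List.Mem.tail _ (List.Mem.tail _ (List.Mem.head _)))))))))))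
    simpa only [map_mul, map_pow, map_inv, ex, ey, ez, et] using h
  · have h := mkHN_eq_one (r := (x⁻¹ * t * x) * (t ^ 2)) (List.Mem.tail _ (List.Mem.tail _ (List.Mem.tail _ (List.Mem.tail _ (List.Mem.tail _ (List.Mem.tail _ (List.Mem.tail _ (List.Mem.tail _ (List.Mem.tail _ (List.Mem.tail _ (List.Mem.tail _ (List.Mem.head _))))))))))))
    simpa only [map_mul, map_pow, map_inv, ex, ey, ez, et] using h
  · have h := mkHN_eq_one (r := t⁻¹ * y⁻¹ * t * y) (List.Mem.tail _ (List.Mem.tail _ (List.Mem.tail _ (List.Mem.tail _ (List.Mem.tail _ (List.Mem.tail _ (List.Mem.tail _ (List.Mem.tail _ (List.Mem.tail _ (List.Mem.tail _ (List.Mem.tail _ (List.Mem.tail _ (List.Mem.head _)))))))))))))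
    simpa only [map_mul, map_pow, map_inv, ex, ey, ez, et] using h
  · have h := mkHN_eq_one (r := (z * t) ^ 3) (List.Mem.tail _ (List.Mem.tail _ (List.Mem.tail _ (List.Mem.tail _ (List.Mem.tail _ (List.Mem.tail _ (List.Mem.tail _ (List.Mem.tail _ (List.Mem.tail _ (List.Mem.tail _ (List.Mem.tail _ (List.Mem.tail _ (List.Mem.tail _ (List.Mem.head _))))))))))))))
    simpa only [map_mul, map_pow, map_inv, ex, ey, ez, et] using h

/-- if `x² = 1` then the presented group is trivial -/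
theorem triv_of_x2 (h2 : hx ^ 2 = 1) : ∀ a : HNG, a = 1 := by
  obtain ⟨h, t5, xt, ty, zt⟩ := relHN
  -- t = 1
  have c1 : hx⁻¹ * ht * hx = (ht ^ 2)⁻¹ := eq_inv_of_mul_eq_one_left xt
  have c2 : hx⁻¹ * (hx⁻¹ * ht * hx) * hx = ht := by
    calc hx⁻¹ * (hx⁻¹ * ht * hx) * hx = (hx ^ 2)⁻¹ * ht * hx ^ 2 := by
          simp only [pow_two, mul_inv_rev, mul_assoc]
      _ = ht := by rw [h2]; simp
  have c3 : hx⁻¹ * (ht ^ 2)⁻¹ * hx = ht ^ 4 := by
    calc hx⁻¹ * (ht ^ 2)⁻¹ * hx = ((hx⁻¹ * ht * hx) ^ 2)⁻¹ := by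
          simp only [pow_two, mul_inv_rev, inv_inv, mul_assoc, mul_inv_cancel_left]
      _ = ht ^ 4 := by rw [c1, inv_pow, inv_inv, ← pow_mul]
  rw [c1, c3] at c2
  have t1 : ht = 1 := by
    have e : ht ^ 15 = ht ^ 4 * ht ^ 4 * ht ^ 4 * ht ^ 3 := by simp only [← pow_add]
    have e1 : ht ^ 3 = 1 := by
      have : ht ^ 3 * ht = 1 * ht := by rw [← pow_succ, one_mul]; exact c2
      exact mul_right_cancel this
    calc ht = ht ^ 3 * ht ^ 3 * (ht ^ 5)⁻¹ := by
          rw [← pow_add, eq_mul_inv_iff_mul_eq, ← pow_succ']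
      _ = 1 := by rw [e1, t5]; simp
  rw [t1, mul_one] at zt
  have z1 : hz = 1 := by
    calc hz = hz ^ 3 * (hz ^ 2)⁻¹ := by rw [eq_mul_inv_iff_mul_eq, ← pow_succ']
      _ = 1 := by rw [zt, h.r7]; simp
  have x1 : hx = 1 := by
    have h10 := h.r10
    rw [z1, one_mul, mul_one, inv_mul_cancel, one_mul] at h10
    calc hx = hx ^ 3 * (hx ^ 2)⁻¹ := by rw [eq_mul_inv_iff_mul_eq, ← pow_succ']
      _ = 1 := by rw [h10, h2]; simp
  have y1 : hy = 1 := (h.triv (by rw [x1]; exact Commute.one_left _)).2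
  have hmk : ∀ w : FreeGroup Cfsg.Spor.HN.Gen, mkHN w = 1 := by
    intro w
    have : mkHN = 1 := by
      ext g
      cases g
      · exact x1
      · exact y1
      · exact z1
      · exact t1
    rw [this]; rfl
  intro a
  obtain ⟨w, rfl⟩ := QuotientGroup.mk'_surjective _ a
  exact hmk w

theorem x2_ne (H : Subgroup HNG) (hH : H.index ≠ 1) : hx ^ 2 ≠ 1 := by
  intro h
  apply hH
  rw [Subgroup.index_eq_one, eq_top_iff]
  intro a _
  rw [triv_of_x2 h a]
  exact one_mem _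

theorem closure_map : ((Subgroup.closure ({Cfsg.Spor.HN.x, Cfsg.Spor.HN.y, Cfsg.Spor.HN.z} : Set (FreeGroup Cfsg.Spor.HN.Gen))).map mkHN) =
    Subgroup.closure ({hx, hy, hz} : Set HNG) := by
  rw [MonoidHom.map_closure, Set.image_insert_eq, Set.image_insert_eq, Set.image_singleton]
  rfl
end H2.HN
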